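import Cfsg.Statements.S3333
import Cfsg.Agent.Char.D8
import Cfsg.Agent.Char.Sym6Rec

set_option autoImplicit false
open Cfsg

namespace Cfsg.Agent.S3333

/-- Let G be a finite group with a Sylow 3-subgroup S of order 9 that is its own centralizer, with N_G(S)/S dihedral of order 8, and such that C_G(x) ≤ N_G(S) for every non-identity x in S. Then S is normal in G or G is isomorphic to the symmetric group of degree 6. -/
theorem result {G : Type*} [Group G] [Finite G]
    (P : Sylow 3 G) (S : Subgroup G) (hSP : S = P) (hcard : Nat.card S = 9)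
    (hC : Subgroup.centralizer (S : Set G) = S)
    (eN : Subgroup.normalizer (S : Set G) ⧸ S.subgroupOf (Subgroup.normalizer (S : Set G)) ≃* DihedralGroup 4)
    (hcent : ∀ x ∈ S, x ≠ 1 → Subgroup.centralizer ({x} : Set G) ≤ Subgroup.normalizer (S : Set G)) :
    S.Normal ∨ Nonempty (G ≃* Equiv.Perm (Fin 6)) := by
  subst hSP
  classical
  set S : Subgroup G := (P : Subgroup G) with hSP
  set N := Subgroup.normalizer (S : Set G) with hNdef
  have hcomm : ∀ a ∈ S, ∀ b ∈ S, a * b = b * a := fun a ha b hb => by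
    rw [← hC] at hb; exact hb a ha
  have hcS : Nat.card (S.subgroupOf N) = 9 := by
    rw [← hcard]
    exact Nat.card_congr (Subgroup.subgroupOfEquivOfLe Subgroup.le_normalizer).toEquiv
  have hN : Nat.card N = 72 := by
    rw [Subgroup.card_eq_card_quotient_mul_card_subgroup (S.subgroupOf N),
      Nat.card_congr eN.toEquiv, DihedralGroup.nat_card, hcS]
  obtain ⟨φ, hφ, hφN⟩ : ∃ φ : DihedralGroup 4 →* G, Function.Injective φ ∧ ∀ x, φ x ∈ N ∧
      (φ x ∈ S → x = 1) := by
    have : Fact (Nat.Prime 2) := ⟨Nat.prime_two⟩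
    obtain ⟨Q⟩ : Nonempty (Sylow 2 N) := inferInstance
    have hQ : Nat.card (Q : Subgroup N) = 8 := by
      rw [Q.card_eq_multiplicity, hN, show 72 = 2 ^ 3 * 9 by norm_num,
        Char.factorization_pow_mul Nat.prime_two (by norm_num)]
      norm_num
    let ψ : (Q : Subgroup N) →* DihedralGroup 4 :=
      (eN.toMonoidHom.comp (QuotientGroup.mk' _)).comp (Subgroup.subtype _)
    have hd : Disjoint (Q : Subgroup N) (S.subgroupOf N) :=
      Subgroup.disjoint_of_coprime_natCard (by rw [hQ, hcS]; norm_num)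
    have hψ : Function.Injective ψ := by
      rw [injective_iff_map_eq_one]
      intro x hx
      have h1 : ((x : N) : N ⧸ S.subgroupOf N) = 1 := by
        apply eN.injective
        rw [map_one]; exact hx
      exact Subtype.ext (Subgroup.disjoint_def.mp hd x.2 ((QuotientGroup.eq_one_iff _).mp h1))
    have hψ' : Function.Bijective ψ := by
      rw [Nat.bijective_iff_injective_and_card]
      exact ⟨hψ, by rw [hQ, DihedralGroup.nat_card]⟩
    let ι := MulEquiv.ofBijective ψ hψ'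
    refine ⟨(N.subtype.comp (Subgroup.subtype _)).comp ι.symm.toMonoidHom,
      (Subgroup.subtype_injective _).comp ((Subgroup.subtype_injective _).comp ι.symm.injective),
      fun x => ⟨(ι.symm x).1.2, fun h => ?_⟩⟩
    have h1 : (ι.symm x).1 = 1 := Subgroup.disjoint_def.mp hd (ι.symm x).2 h
    exact ι.symm.injective (by rw [map_one]; exact Subtype.ext h1)
  have hexp : ∀ s ∈ S, s ^ 3 = 1 := by
    intro s hs
    by_contra hne
    have h1 : orderOf (⟨s, hs⟩ : S) = 9 := by
      have h2 := orderOf_dvd_natCard (⟨s, hs⟩ : S)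
      rw [hcard, show 9 = 3 ^ 2 by norm_num, Nat.dvd_prime_pow Nat.prime_three] at h2
      obtain ⟨k, hk, h3⟩ := h2
      have h4 : ¬ orderOf (⟨s, hs⟩ : S) ∣ 3 := by
        rw [orderOf_dvd_iff_pow_eq_one]
        exact fun h => hne (congrArg Subtype.val h)
      rw [h3] at h4 ⊢
      interval_cases k
      · simp at h4
      · simp at h4
      · norm_num
    have hcyc : IsCyclic S := isCyclic_of_orderOf_eq_card _ (h1.trans hcard.symm)
    have hab : ∀ u v : MulAut S, u * v = v * u := fun u v => by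
      apply (IsCyclic.mulAutMulEquiv S).injective
      rw [map_mul, map_mul, mul_comm]
    have h2 : ∀ x y, φ (x * y * x⁻¹ * y⁻¹) ∈ S := by
      intro x y
      rw [← hC]
      have h3 : (⟨φ x, (hφN x).1⟩ * ⟨φ y, (hφN y).1⟩ * ⟨φ x, (hφN x).1⟩⁻¹ *
          ⟨φ y, (hφN y).1⟩⁻¹ : N) ∈ S.normalizerMonoidHom.ker := by
        rw [MonoidHom.mem_ker, map_mul, map_mul, map_mul, map_inv, map_inv,
          hab (S.normalizerMonoidHom ⟨φ x, (hφN x).1⟩)]
        group
      rw [Subgroup.normalizerMonoidHom_ker, Subgroup.mem_subgroupOf] at h3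
      simpa using h3
    exact absurd ((hφN _).2 (h2 (DihedralGroup.r 1) (DihedralGroup.sr 0))) (by decide)
  obtain ⟨a, b, ρ, f, hp, hcls, hρa, hρb, fρ, fa, fb, hcen, t, hta, ft⟩ :=
    Char.d8_main P hcard hexp hC hcent hN φ hφ (fun x => (hφN x).1)
  set K := f.toHomUnits.ker with hK
  have hmem : ∀ g, g ∈ K ↔ f g = 1 := fun g => by
    rw [hK, MonoidHom.mem_ker, Units.ext_iff]; rfl
  have hSK : S ≤ K := by
    intro s hs
    obtain ⟨v, rfl⟩ := (hp.mem s).mp hs
    rw [hmem]
    simp [Char.e9, fa, fb]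
  have haK := (hmem a).mpr fa
  have hbK := (hmem b).mpr fb
  have hρK := (hmem ρ).mpr fρ
  have he : ∀ v, ((Char.e9 (⟨a, haK⟩ : K) ⟨b, hbK⟩ v : K) : G) = Char.e9 a b v := fun v => by
    simp [Char.e9]
  let P' : Sylow 3 K := P.subtype hSK
  have hP' : ∀ s : K, s ∈ (P' : Subgroup K) ↔ (s : G) ∈ S := fun s => Iff.rfl
  have hp' : Char.Param (P' : Subgroup K) (Char.e9 (⟨a, haK⟩ : K) ⟨b, hbK⟩) := by
    refine ⟨fun u v => Subtype.ext ?_, fun u v h => hp.inj ?_, fun g => ?_⟩
    · rw [Subgroup.coe_mul, he, he, he, hp.add]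
    · rw [← he, ← he, h]
    · rw [hP', hp.mem]
      exact exists_congr fun v => by rw [← he, Subtype.coe_inj]
  have hc' : Nat.card P' = 9 := by rw [hp'.card]; simp
  have hρ : ∀ v : Char.V9, IsConj (Char.e9 (⟨a, haK⟩ : K) ⟨b, hbK⟩ v)
      (Char.e9 (⟨a, haK⟩ : K) ⟨b, hbK⟩ (-v.2, v.1)) := by
    intro v
    rw [isConj_iff]
    refine ⟨⟨ρ, hρK⟩, Subtype.ext ?_⟩
    rw [Subgroup.coe_mul, Subgroup.coe_mul, he, he]
    have h1 : ∀ w : Char.V9, Char.e9 a b w = Char.e9 a b (w.1, 0) * Char.e9 a b (0, w.2) :=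
      fun w => by rw [← hp.add]; simp
    have h2 : Char.e9 a b (-v.2, 0) = (a ^ v.2.val)⁻¹ := by
      have := hp.neg (v.2, 0)
      simp only [Prod.neg_mk, neg_zero] at this
      rw [this]; simp [Char.e9]
    rw [h1 (-v.2, v.1), h2, ← hp.comm _ (hp.mem' (0, v.1)) _ (h2 ▸ hp.mem' _)]
    simp only [Char.e9, Subgroup.coe_inv, ZMod.val_zero, pow_zero, one_mul]
    rw [← inv_pow, ← hρb, show b ^ v.1.val = (ρ * a * ρ⁻¹) ^ v.1.val by rw [hρa]]
    simp only [conj_pow]
    group
  have hcls' : ∀ u v, IsConj (Char.e9 (⟨a, haK⟩ : K) ⟨b, hbK⟩ u)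
      (Char.e9 (⟨a, haK⟩ : K) ⟨b, hbK⟩ v) ↔ Char.cls2 u = Char.cls2 v := by
    intro u v
    constructor
    · intro h
      rw [← hcls, ← he, ← he]
      exact K.subtype.map_isConj h
    · intro h
      have h1 : ∀ u v : Char.V9, Char.cls2 u = Char.cls2 v → v = u ∨ v = (-u.2, u.1) ∨
          v = (-u.1, -u.2) ∨ v = (- -u.2, -u.1) := by decide
      rcases h1 u v h with rfl | rfl | rfl | rfl
      · exact IsConj.refl _
      · exact hρ _
      · exact (hρ _).trans (hρ _)
      · exact ((hρ _).trans (hρ _)).trans (hρ _)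
  have hC' : ∀ s ∈ (P' : Subgroup K), s ≠ 1 → Subgroup.centralizer ({s} : Set K) = P' := by
    intro s hs h1
    ext g
    rw [Subgroup.mem_centralizer_singleton_iff, hP']
    exact ⟨fun h => hcen s hs (fun h' => h1 (Subtype.ext h')) g (congrArg Subtype.val h)
      ((hmem g).mp g.2), fun h => Subtype.ext (hcomm _ h _ hs)⟩
  have hexp' : ∀ s ∈ (P' : Subgroup K), s ^ 3 = 1 := fun s hs => Subtype.ext (hexp s hs)
  have : Fact (Nat.Prime 3) := ⟨Nat.prime_three⟩
  have hfr : N ⊔ K = ⊤ := by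
    have := Sylow.normalizer_sup_eq_top' P hSK
    exact this
  rcases Char.selfcent_four P' hc' hexp' hC' hp' hcls' with h | ⟨⟨ι⟩⟩
  · left
    rw [← Subgroup.normalizer_eq_top_iff, eq_top_iff, ← hfr]
    have : (S.subgroupOf K).Normal := h
    exact sup_le le_rfl (Subgroup.le_normalizer_of_normal_subgroupOf hSK)
  right
  obtain ⟨F, hF⟩ := Char.exists_hom_sym6 K ι
    ((Subgroup.centralizer_le hSK).trans (hC.le.trans hSK)) (by
    intro x hx g
    have h1 : ∀ y : K, y ^ 3 = 1 → ∃ v, IsConj y (Char.e9 (⟨a, haK⟩ : K) ⟨b, hbK⟩ v) := by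
      intro y hy
      have h2 : IsPGroup 3 (Subgroup.zpowers y) := by
        refine IsPGroup.of_card_dvd_pow (n := 1) ?_
        rw [Nat.card_zpowers, pow_one]
        exact orderOf_dvd_of_pow_eq_one hy
      obtain ⟨R, hR⟩ := h2.exists_le_sylow
      obtain ⟨k, hk⟩ := MulAction.exists_smul_eq K R P'
      have h3 : k * y * k⁻¹ ∈ (P' : Subgroup K) := by
        rw [← hk]; exact ⟨y, hR (Subgroup.mem_zpowers y), rfl⟩
      obtain ⟨v, hv⟩ := (hp'.mem _).mp h3
      exact ⟨v, isConj_iff.mpr ⟨k, hv.symm⟩⟩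
    obtain ⟨u, hu⟩ := h1 x hx
    obtain ⟨v, hv⟩ := h1 (MulAut.conjNormal g x) (by rw [← map_pow, hx, map_one])
    refine hu.trans (((hcls' u v).mpr ?_).trans hv.symm)
    rw [← hcls, ← he, ← he]
    exact (K.subtype.map_isConj hu).symm.trans
      ((isConj_iff.mpr ⟨g, rfl⟩ : IsConj (x : G) (MulAut.conjNormal g x : K)).trans
        (K.subtype.map_isConj hv)))
  refine ⟨MulEquiv.ofBijective F ?_⟩
  rw [Nat.bijective_iff_injective_and_card]
  refine ⟨hF, ?_⟩
  have h1 := Nat.card_le_card_of_injective F hF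
  have h2 := K.card_mul_index
  have h3 : K.index ≠ 1 := fun h => by
    have h4 : t ∈ K := Subgroup.index_eq_one.mp h ▸ Subgroup.mem_top t
    rw [hmem, ft] at h4
    norm_num at h4
  have h4 : K.index ≠ 0 := Subgroup.index_ne_zero_of_finite
  rw [Nat.card_congr ι.toEquiv, nat_card_alternatingGroup] at h2
  rw [Nat.card_perm] at h1 ⊢
  rw [show Nat.card (Fin 6) = 6 by simp, show Nat.factorial 6 = 720 by rfl] at h1 h2 ⊢
  omega

end Cfsg.Agent.S3333
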