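import Cfsg.Statements.S3329
import Cfsg.Agent.Char.A8Loc

set_option autoImplicit false
open Cfsg

namespace Cfsg.Agent.S3329

open Char Char.L8 Subgroup Local

attribute [local irreducible] L8.z x2 x3 x4 x5 a p q h s s' m r


/-- A 3-local characterization of the alternating group of degree 8. Let G be a finite group whose Sylow 3-subgroup D is elementary abelian of order 9, generated by y and z, and suppose: (i) C_G(D) = D and N_G(D)/D is dihedral of order 8; (ii) D is normal in C_G(y), C_G(y) has order 18, D is normal in N_G(⟨y⟩) and N_G(⟨y⟩)/D is elementary abelian of order 4; (iii) C_G(z) is isomorphic to the direct product of a cyclic group of order 3 and the alternating group of degree 5, and N_G(⟨z⟩) is isomorphic to the subgroup of index 2 of Sym(3) × Sym(5) consisting of the pairs of permutations whose signs agree. Then G is isomorphic to the alternating group of degree 8. -/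
theorem result {G : Type*} [Group G] [Finite G]
    (P : Sylow 3 G) (D : Subgroup G) (hDP : D = P) (y z : G) (hgen : Subgroup.closure {y, z} = D)
    (hcomm : IsMulCommutative D) (hcard : Nat.card D = 9) (hexp : ∀ a ∈ D, a ^ 3 = 1)
    (hC : Subgroup.centralizer (D : Set G) = D)
    (eN : Subgroup.normalizer (D : Set G) ⧸ D.subgroupOf (Subgroup.normalizer (D : Set G)) ≃* DihedralGroup 4)
    (hyn : (D.subgroupOf (Subgroup.centralizer ({y} : Set G))).Normal)
    (hycard : Nat.card (Subgroup.centralizer ({y} : Set G)) = 18)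
    (Ny : Subgroup G) (hNy : Ny = Subgroup.normalizer (Subgroup.zpowers y : Set G))
    (hyN : D ≤ Ny) [hyNn : (D.subgroupOf Ny).Normal]
    (hyNcard : Nat.card (Ny ⧸ D.subgroupOf Ny) = 4) (hyNexp : ∀ g : Ny ⧸ D.subgroupOf Ny, g ^ 2 = 1)
    (eC : Subgroup.centralizer ({z} : Set G) ≃* Multiplicative (ZMod 3) × alternatingGroup (Fin 5))
    (eL : Subgroup.normalizer (Subgroup.zpowers z : Set G) ≃*
      (((Equiv.Perm.sign).comp (MonoidHom.fst (Equiv.Perm (Fin 3)) (Equiv.Perm (Fin 5)))) *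
        ((Equiv.Perm.sign).comp (MonoidHom.snd (Equiv.Perm (Fin 3)) (Equiv.Perm (Fin 5))))).ker) :
    Nonempty (G ≃* alternatingGroup (Fin 8)) := by
  classical
  obtain ⟨ι⟩ := exists_equiv
  let φ₀ : L →* G := (normalizer (zpowers z : Set G)).subtype.comp
    (ι.trans eL.symm).toMonoidHom
  have inj : Function.Injective φ₀ := Subtype.val_injective.comp (ι.trans eL.symm).injective
  have hr : ∀ g, g ∈ normalizer (zpowers z : Set G) ↔ ∃ l, φ₀ l = g := fun g =>
    ⟨fun hg => ⟨(ι.trans eL.symm).symm ⟨g, hg⟩, by simp [φ₀]⟩, by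
      rintro ⟨l, rfl⟩; exact ((ι.trans eL.symm) l).2⟩
  clear_value φ₀
  have zD' : z ∈ D := hgen ▸ subset_closure (by simp)
  have yD : y ∈ D := hgen ▸ subset_closure (by simp)
  have hcm : ∀ a ∈ D, ∀ b ∈ D, a * b = b * a := fun a ha b hb =>
    congrArg Subtype.val (hcomm.is_comm.comm ⟨a, ha⟩ ⟨b, hb⟩)
  have hc3 : ∀ w : G, w ^ 3 = 1 → Nat.card (zpowers w) ≠ 9 := fun w hw e => by
    have := Nat.le_of_dvd (by norm_num) (orderOf_dvd_of_pow_eq_one hw)
    rw [Nat.card_zpowers] at e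
    omega
  have hy : y ∉ zpowers z := fun e => hc3 z (hexp z zD') (by
    rw [← hcard, ← hgen]
    congr 2
    exact le_antisymm (zpowers_le.mpr (subset_closure (by simp))) ((closure_le _).mpr (by
      rintro x (rfl | rfl)
      exacts [e, mem_zpowers _])))
  have z1 : z ≠ 1 := by
    rintro rfl
    refine hc3 y (hexp y yD) ?_
    rw [← hcard, ← hgen]
    congr 2
    exact le_antisymm (zpowers_le.mpr (subset_closure (by simp))) ((closure_le _).mpr (by
      rintro x (rfl | rfl)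
      exacts [mem_zpowers _, one_mem _]))
  have oz : orderOf z = 3 :=
    have : Fact (Nat.Prime 3) := ⟨Nat.prime_three⟩
    orderOf_eq_prime (hexp z zD') z1
  obtain ⟨l, hl⟩ := (hr z).mp (le_normalizer (mem_zpowers z))
  have hz : zpowers (φ₀ L8.z) = zpowers z := by
    rcases eq_z l (inj (by rw [map_pow, hl, hexp z zD', map_one])) (fun e => z1 (by
      rw [← hl, e, map_one])) (fun k => by
        rcases mem_zpowers_three oz (conj_mem_of_mem_normalizer ((hr _).mpr ⟨k, rfl⟩)
          (mem_zpowers z)) with e | e | e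
        · exact absurd (conj_eq_one_iff.mp e) z1
        · exact Or.inl (inj (by simpa [hl] using e))
        · exact Or.inr (inj (by simpa [hl] using e))) with e | e
    · rw [← e, hl]
    · rw [← hl, e, map_inv, zpowers_inv]
  obtain ⟨m, hm⟩ := (hr y).mp (centralizer_le_normalizer _ (by
    rintro _ ⟨n, rfl⟩
    exact (Commute.zpow_left (hcm z zD' y yD) n).eq))
  have hm' : ∀ w, φ₀ w ∈ zpowers z → m ≠ w := fun w hw e => hy (hm ▸ e ▸ hw)
  obtain ⟨k, hk, hk'⟩ := conj_a m (inj (by rw [map_pow, hm, hexp y yD, map_one]))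
    (hm' _ (by simp)) (hm' _ (hz ▸ mem_zpowers _)) (hm' _ (hz ▸ by simp))
  obtain ⟨φ, hφ⟩ : ∃ φ : L →* G, ∀ w, φ w = φ₀ (k * w * k⁻¹) :=
    ⟨φ₀.comp (MulAut.conj k).toMonoidHom, fun _ => rfl⟩
  have pz : φ L8.z = φ₀ L8.z := by rw [hφ, hk, mul_inv_cancel_right]
  have loc : Loc φ := ⟨fun a b e => by simpa using inj ((hφ a).symm.trans (e.trans (hφ b))),
    fun g hg => by
      obtain ⟨w, rfl⟩ := (hr g).mp (hz ▸ mem_normalizer_of_conj_mem (by
        rintro _ ⟨n, rfl⟩
        rw [← conj_zpow]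
        exact zpow_mem (pz ▸ hg) n))
      exact ⟨k⁻¹ * w * k, by rw [hφ, show k * (k⁻¹ * w * k) * k⁻¹ = w by group]⟩⟩
  have zD'' : φ L8.z ∈ D := zpowers_le.mpr zD' (hz ▸ pz ▸ mem_zpowers _)
  have hy' : φ a = y ∨ φ L8.z * φ a = y ∨ (φ L8.z)⁻¹ * φ a = y := by
    rw [← map_inv, ← map_mul, ← map_mul, hφ, hφ, hφ, ← hm]
    exact hk'.imp (congrArg _) (Or.imp (congrArg _) (congrArg _))
  have hD : L8.D φ = D := by
    refine le_antisymm ((closure_le _).mpr ?_) (hgen ▸ (closure_le _).mpr ?_)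
    · rintro x (rfl | rfl)
      · exact zD''
      · rcases hy' with e | e | e
        · exact e ▸ yD
        · exact (mul_mem_cancel_left zD'').mp (e ▸ yD)
        · exact (mul_mem_cancel_left (inv_mem zD'')).mp (e ▸ yD)
    · rintro x (rfl | rfl)
      · rcases hy' with e | e | e <;> rw [← e]
        exacts [aD, mul_mem zD aD, mul_mem (inv_mem zD) aD]
      · exact zpowers_le.mpr zD (pz ▸ hz ▸ mem_zpowers _)
  let π := eN.toMonoidHom.comp (QuotientGroup.mk' _)
  have hπ : ∀ g, π g = 1 ↔ (g : G) ∈ D := fun g =>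
    (map_eq_one_iff _ eN.injective).trans (QuotientGroup.eq_one_iff g)
  obtain ⟨u, u1, u2, u3⟩ := loc.exists_swap (by
    obtain ⟨n, hn⟩ := (eN.surjective.comp (QuotientGroup.mk'_surjective _)) (DihedralGroup.r 1)
    refine hD ▸ ⟨n, n.2, fun e => ?_⟩
    have := (hπ (n ^ 2)).mpr e
    rw [map_pow, show π n = _ from hn] at this
    exact absurd this (by decide)) (hD ▸ fun g hg k hk => by
      have d : ∀ a b : DihedralGroup 4, a * (b⁻¹ * a * b) * a⁻¹ * (b⁻¹ * a * b)⁻¹ = 1 := by decide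
      exact (hπ (⟨g, hg⟩ * (⟨k, hk⟩⁻¹ * ⟨g, hg⟩ * ⟨k, hk⟩) * ⟨g, hg⟩⁻¹ *
        (⟨k, hk⟩⁻¹ * ⟨g, hg⟩ * ⟨k, hk⟩)⁻¹)).mp (by simpa only [map_mul, map_inv] using d _ _))
  have h5 : ∀ w, φ h * w = w * φ h → Nat.card (centralizer {w}) ≠ 18 := fun w hw e => by
    have : Fact (Nat.Prime 5) := ⟨by norm_num⟩
    have h1 := orderOf_dvd_card_of_mem (mem_centralizer_singleton_iff.mpr hw)
    rw [orderOf_eq_prime (by rw [← map_pow, rel2.2.2.1.1, map_one])
      (fun e => rel2.2.2.1.2.1 (loc.eq1.mp e)), e] at h1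
    omega
  have h6 := h5 _ (loc.cm.mpr rel2.2.2.1.2.2.1)
  have h7 : Nat.card (centralizer {φ (L8.z * a)}) = 18 := by
    obtain ⟨i, hi, j, hj, e⟩ := mem_D.mp (hD ▸ yD)
    rw [e] at hycard
    rcases cls_D i hi j hj with e0 | ⟨w, -, e0 | e0 | e0⟩
    · exact absurd hycard (h5 _ (by simp [e0]))
    · exact absurd ((card_centralizer_eq_of_isConj (isConj_iff.mpr ⟨_, cj φ e0⟩)).trans hycard) h6
    · exact absurd ((card_centralizer_eq_of_isConj ((isConj_iff.mpr ⟨_, u2⟩).trans
        (isConj_iff.mpr ⟨_, cj φ e0⟩))).trans hycard) h6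
    · exact (card_centralizer_eq_of_isConj (isConj_iff.mpr ⟨_, cj φ e0⟩)).trans hycard
  have yD' : φ (L8.z * a) ∈ L8.D φ := map_mul φ L8.z a ▸ mul_mem zD aD
  have h8 := card_mul_relIndex (show L8.D φ ≤ centralizer {φ (L8.z * a)} from fun d hd =>
    mem_centralizer_singleton_iff.mpr (D_comm hd yD'))
  rw [h7, show Nat.card (L8.D φ) = 9 from hD ▸ hcard] at h8
  have uy : u * φ (L8.z * a) = φ (L8.z * a) * u := by
    rw [← mul_inv_eq_iff_eq_mul, map_mul, ← conj_mul, u2, u3, za]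
  have : Fact (Nat.Prime 3) := ⟨Nat.prime_three⟩
  refine Hyp.equiv (φ := φ) (u := u) ⟨loc, u1, u2, u3, fun g hg => or_iff_not_imp_left.mpr
    fun e => ?_, fun e => h6 ((card_centralizer_eq_of_isConj e).trans h7)⟩
    (by rw [hD, hDP]; exact isSylowIn_top P)
  exact (mul_mem_iff_of_index_two (H := (L8.D φ).subgroupOf (centralizer {φ (L8.z * a)}))
    (show (L8.D φ).relIndex _ = 2 by omega) (a := ⟨g, mem_centralizer_singleton_iff.mpr hg⟩)
    (b := ⟨u, mem_centralizer_singleton_iff.mpr uy⟩)).mpr (iff_of_false e fun e' =>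
      rel2.1.2.2.2.2.2.2.1 (loc.inj (by rw [← u2, D_comm (d := u) e' zD, mul_inv_cancel_right])))

end Cfsg.Agent.S3329
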