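import Cfsg.Statements.S3330
import Cfsg.Agent.Char.S8E5

set_option autoImplicit false
open Cfsg

namespace Cfsg.Agent.S3330

open Char Char.S8 Subgroup Local

attribute [local irreducible] S8.z a c t s h p q v e m d


/-- A 3-local characterization of the symmetric group of degree 8, with one exceptional configuration. Let G be a finite group whose Sylow 3-subgroup D is elementary abelian of order 9, generated by y and z, and suppose: (i) C_G(D) has order 18, N_G(D)/D is isomorphic to the direct product of a dihedral group of order 8 and a group of order 2, and N_G(D)/C_G(D) is dihedral of order 8; (ii) D is normal in C_G(y), C_G(y) has order 36 with every square lying in D, D is normal in N_G(⟨y⟩), and N_G(⟨y⟩) has order 72 with every square lying in D; (iii) C_G(z) is isomorphic to the direct product of a cyclic group of order 3 and Sym(5), and N_G(⟨z⟩) is isomorphic to Sym(3) × Sym(5). Then either G is isomorphic to the symmetric group of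 degree 8, or the generalized Fitting subgroup of G is a minimal normal subgroup isomorphic to Alt(5) × Alt(5) of index 4 with every square of G lying in it. -/
theorem result {G : Type*} [Group G] [Finite G]
    (P : Sylow 3 G) (D : Subgroup G) (hDP : D = P) (y z : G) (hgen : Subgroup.closure {y, z} = D)
    (hcomm : IsMulCommutative D) (hcard : Nat.card D = 9) (hexp : ∀ a ∈ D, a ^ 3 = 1)
    (hC : Nat.card (Subgroup.centralizer (D : Set G)) = 18)
    (eN : Subgroup.normalizer (D : Set G) ⧸ D.subgroupOf (Subgroup.normalizer (D : Set G)) ≃* DihedralGroup 4 × Multiplicative (ZMod 2))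
    [hcn : ((Subgroup.centralizer (D : Set G)).subgroupOf (Subgroup.normalizer (D : Set G))).Normal]
    (eNC : Subgroup.normalizer (D : Set G) ⧸ (Subgroup.centralizer (D : Set G)).subgroupOf (Subgroup.normalizer (D : Set G)) ≃* DihedralGroup 4)
    (hyn : (D.subgroupOf (Subgroup.centralizer ({y} : Set G))).Normal)
    (hycard : Nat.card (Subgroup.centralizer ({y} : Set G)) = 36)
    (hysq : ∀ g ∈ Subgroup.centralizer ({y} : Set G), g ^ 2 ∈ D)
    (Ny : Subgroup G) (hNy : Ny = Subgroup.normalizer (Subgroup.zpowers y : Set G))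
    (hyNn : (D.subgroupOf Ny).Normal) (hyNcard : Nat.card Ny = 72) (hyNsq : ∀ g ∈ Ny, g ^ 2 ∈ D)
    (eC : Subgroup.centralizer ({z} : Set G) ≃* Multiplicative (ZMod 3) × Equiv.Perm (Fin 5))
    (eL : Subgroup.normalizer (Subgroup.zpowers z : Set G) ≃* Equiv.Perm (Fin 3) × Equiv.Perm (Fin 5)) :
    Nonempty (G ≃* Equiv.Perm (Fin 8)) ∨
      ∃ N : Subgroup G, N.Normal ∧ Cfsg.generalizedFittingSubgroup G = N ∧
        Nonempty (N ≃* alternatingGroup (Fin 5) × alternatingGroup (Fin 5)) ∧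
        (∀ K : Subgroup G, K.Normal → K ≤ N → K = ⊥ ∨ K = N) ∧
        N.index = 4 ∧ ∀ g : G, g ^ 2 ∈ N := by
  classical
  let φ₀ : S8.P →* G := (normalizer (zpowers z : Set G)).subtype.comp eL.symm.toMonoidHom
  have inj : Function.Injective φ₀ := Subtype.val_injective.comp eL.symm.injective
  have hr : ∀ g, g ∈ normalizer (zpowers z : Set G) ↔ ∃ l, φ₀ l = g := fun g =>
    ⟨fun hg => ⟨eL ⟨g, hg⟩, by simp [φ₀]⟩, by rintro ⟨l, rfl⟩; exact (eL.symm l).2⟩
  clear_value φ₀
  have zD' : z ∈ D := hgen ▸ subset_closure (by simp)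
  have yD : y ∈ D := hgen ▸ subset_closure (by simp)
  have hcm : ∀ a ∈ D, ∀ b ∈ D, a * b = b * a := fun a ha b hb =>
    congrArg Subtype.val (hcomm.is_comm.comm ⟨a, ha⟩ ⟨b, hb⟩)
  have hc3 : ∀ w : G, w ^ 3 = 1 → Nat.card (zpowers w) ≠ 9 := fun w hw e => by
    have := Nat.le_of_dvd (by norm_num) (orderOf_dvd_of_pow_eq_one hw)
    rw [Nat.card_zpowers] at e
    omega
  have hy : y ∉ zpowers z := fun e => hc3 z (hexp z zD') (by
    rw [← hcard, ← hgen]
    congr 2
    exact le_antisymm (zpowers_le.mpr (subset_closure (by simp))) ((closure_le _).mpr (by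
      rintro x (rfl | rfl)
      exacts [e, mem_zpowers _])))
  have z1 : z ≠ 1 := by
    rintro rfl
    refine hc3 y (hexp y yD) ?_
    rw [← hcard, ← hgen]
    congr 2
    exact le_antisymm (zpowers_le.mpr (subset_closure (by simp))) ((closure_le _).mpr (by
      rintro x (rfl | rfl)
      exacts [mem_zpowers _, one_mem _]))
  have oz : orderOf z = 3 :=
    have : Fact (Nat.Prime 3) := ⟨Nat.prime_three⟩
    orderOf_eq_prime (hexp z zD') z1
  obtain ⟨l, hl⟩ := (hr z).mp (le_normalizer (mem_zpowers z))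
  have hz : zpowers (φ₀ S8.z) = zpowers z := by
    rcases eq_z l (inj (by rw [map_pow, hl, hexp z zD', map_one])) (fun e => z1 (by
      rw [← hl, e, map_one])) (by
        rcases mem_zpowers_three oz (conj_mem_of_mem_normalizer ((hr _).mpr ⟨h, rfl⟩)
          (mem_zpowers z)) with e | e | e
        · exact absurd (conj_eq_one_iff.mp e) z1
        · exact Or.inl (inj (by simpa [hl] using e))
        · exact Or.inr (inj (by simpa [hl] using e))) with e | e
    · rw [← e, hl]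
    · rw [← hl, e, map_inv, zpowers_inv]
  obtain ⟨m, hm⟩ := (hr y).mp (centralizer_le_normalizer _ (by
    rintro _ ⟨n, rfl⟩
    exact (Commute.zpow_left (hcm z zD' y yD) n).eq))
  have hm' : ∀ w, φ₀ w ∈ zpowers z → m ≠ w := fun w hw e => hy (hm ▸ e ▸ hw)
  obtain ⟨k, hk'⟩ := conj_a m (inj (by rw [map_pow, hm, hexp y yD, map_one]))
    (hm' _ (by simp)) (hm' _ (hz ▸ mem_zpowers _)) (hm' _ (hz ▸ by simp))
  have hk : (1, k) * S8.z = S8.z * (1, k) :=
    Prod.ext (by simp) (by simp [show S8.z.2 = 1 by decide +kernel])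
  generalize ((1, k) : S8.P) = k at hk hk'
  obtain ⟨φ, hφ⟩ : ∃ φ : S8.P →* G, ∀ w, φ w = φ₀ (k * w * k⁻¹) :=
    ⟨φ₀.comp (MulAut.conj k).toMonoidHom, fun _ => rfl⟩
  have pz : φ S8.z = φ₀ S8.z := by rw [hφ, hk, mul_inv_cancel_right]
  have loc : Loc φ := ⟨fun a b e => by simpa using inj ((hφ a).symm.trans (e.trans (hφ b))),
    fun g hg => by
      obtain ⟨w, rfl⟩ := (hr g).mp (hz ▸ mem_normalizer_of_conj_mem (by
        rintro _ ⟨n, rfl⟩
        rw [← conj_zpow]
        exact zpow_mem (pz ▸ hg) n))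
      exact ⟨k⁻¹ * w * k, by rw [hφ, show k * (k⁻¹ * w * k) * k⁻¹ = w by group]⟩⟩
  have zD'' : φ S8.z ∈ D := zpowers_le.mpr zD' (hz ▸ pz ▸ mem_zpowers _)
  have hy' : φ a = y ∨ φ S8.z * φ a = y ∨ (φ S8.z)⁻¹ * φ a = y := by
    rw [← map_inv, ← map_mul, ← map_mul, hφ, hφ, hφ, ← hm]
    exact hk'.imp (congrArg _) (Or.imp (congrArg _) (congrArg _))
  have hD : S8.D φ = D := by
    refine le_antisymm ((closure_le _).mpr ?_) (hgen ▸ (closure_le _).mpr ?_)
    · rintro x (rfl | rfl)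
      · exact zD''
      · rcases hy' with e | e | e
        · exact e ▸ yD
        · exact (mul_mem_cancel_left zD'').mp (e ▸ yD)
        · exact (mul_mem_cancel_left (inv_mem zD'')).mp (e ▸ yD)
    · rintro x (rfl | rfl)
      · rcases hy' with e | e | e <;> rw [← e]
        exacts [aD, mul_mem zD aD, mul_mem (inv_mem zD) aD]
      · exact zpowers_le.mpr zD (pz ▸ hz ▸ mem_zpowers _)
  subst hD
  let π := eNC.toMonoidHom.comp (QuotientGroup.mk' _)
  have hπ : ∀ g, π g = 1 ↔ (g : G) ∈ centralizer (S8.D φ : Set G) := fun g =>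
    (map_eq_one_iff _ eNC.injective).trans (QuotientGroup.eq_one_iff g)
  obtain ⟨n, n2, n3⟩ := loc.exists_swap (by
    obtain ⟨n, hn⟩ := (eNC.surjective.comp (QuotientGroup.mk'_surjective _)) (DihedralGroup.r 1)
    refine ⟨n, n.2, fun e => ?_⟩
    have := (hπ (n ^ 2)).mpr e
    rw [map_pow, show π n = _ from hn] at this
    exact absurd this (by decide)) (fun g hg k hk => by
      have d : ∀ a b : DihedralGroup 4, a * (b⁻¹ * a * b) * a⁻¹ * (b⁻¹ * a * b)⁻¹ = 1 := by decide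
      exact (hπ (⟨g, hg⟩ * (⟨k, hk⟩⁻¹ * ⟨g, hg⟩ * ⟨k, hk⟩) * ⟨g, hg⟩⁻¹ *
        (⟨k, hk⟩⁻¹ * ⟨g, hg⟩ * ⟨k, hk⟩)⁻¹)).mp (by simpa only [map_mul, map_inv] using d _ _))
  have h5 : ∀ w, φ h * w = w * φ h → Nat.card (centralizer {w}) ≠ 36 := fun w hw e => by
    have : Fact (Nat.Prime 5) := ⟨by norm_num⟩
    have h1 := orderOf_dvd_card_of_mem (mem_centralizer_singleton_iff.mpr hw)
    rw [orderOf_eq_prime (by rw [← map_pow, rel.2.2.2.1, map_one])
      (fun e => rel.2.2.2.2.1 (loc.eq1.mp e)), e] at h1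
    omega
  have h6 := h5 _ (loc.cm.mpr rel.2.2.2.2.2.1)
  obtain ⟨w, wN, ew⟩ : ∃ w ∈ normalizer (S8.D φ : Set G), w * φ (S8.z * a) * w⁻¹ = y := by
    obtain ⟨w, wN, e0 | e0 | e0⟩ := cls yD fun e => h5 y (by simp [e]) hycard
    · exact absurd ((card_centralizer_eq_of_isConj (isConj_iff.mpr ⟨_, e0⟩)).trans hycard) h6
    · exact absurd ((card_centralizer_eq_of_isConj ((isConj_iff.mpr ⟨_, n2⟩).trans
        (isConj_iff.mpr ⟨_, e0⟩))).trans hycard) h6
    · exact ⟨_, wN, e0⟩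
  have cw : ∀ g, g * φ (S8.z * a) = φ (S8.z * a) * g → w * g * w⁻¹ ∈ centralizer {y} := fun g hg =>
    mem_centralizer_singleton_iff.mpr (by rw [← ew, conj_mul, conj_mul, hg])
  have n4 : n ^ 2 ∈ S8.D φ := by
    have := inv_conj_mem_of_mem_normalizer wN (hysq _ (cw n (by
      rw [← mul_inv_eq_iff_eq_mul, map_mul, ← conj_mul, n2, n3, za])))
    rw [conj_pow] at this
    simpa [mul_assoc] using this
  have n5 : ∀ x y, x ∈ S8.D φ → n * x * n⁻¹ = y → n * n ^ 2 * x * (n * n ^ 2)⁻¹ = y := by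
    rintro x _ hx rfl
    rw [mul_assoc n, D_comm n4 hx]; group
  have : Fact (Nat.Prime 3) := ⟨Nat.prime_three⟩
  have hh : Hyp φ (n * n ^ 2) := ⟨loc, by rw [← D_cube n4]; group, n5 _ _ zD n2, n5 _ _ aD n3,
    fun g hg => by
      have h1 : w * g * w⁻¹ ∈ normalizer (S8.D φ : Set G) := mem_normalizer_of_conj_mem fun d hd =>
        hyn.conj_mem ⟨d, mem_centralizer_singleton_iff.mpr (D_comm hd yD)⟩ hd ⟨_, cw g hg⟩
      simpa [mul_assoc] using mul_mem (mul_mem (inv_mem wN) h1) wN,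
    fun e => h6 ((card_centralizer_eq_of_isConj (e.trans (isConj_iff.mpr ⟨_, ew⟩))).trans hycard),
    by rw [hDP]; exact isSylowIn_top P⟩
  have hd := hh.dich hcard eNC
  obtain ⟨u, hu, e | e⟩ := hh.normalise
  · exact Or.inl (hu.sym8 e hd)
  obtain ⟨ψ, hψ, e'⟩ := hu.exists_conj
  obtain ⟨R, hR⟩ := HE.exists_WR ⟨hu, relE.2.1.2.2.2.2.1 ▸ e, fun l => (e' l).symm, hψ⟩ hd
  refine Or.inr (hR.final (hR.top hd fun x hx y hy => ?_))
  let ρ := eN.toMonoidHom.comp (QuotientGroup.mk' _)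
  have hρ : ∀ g, ρ g = 1 ↔ (g : G) ∈ S8.D φ := fun g =>
    (map_eq_one_iff _ eN.injective).trans (QuotientGroup.eq_one_iff g)
  have d : ∀ a b : DihedralGroup 4 × Multiplicative (ZMod 2),
      a * a = 1 ∨ b * b = 1 ∨ a * a * (b * b) = 1 := by decide +kernel
  simp only [pow_two]
  exact (d (ρ ⟨x, hx⟩) (ρ ⟨y, hy⟩)).imp (fun e => (hρ (⟨x, hx⟩ * ⟨x, hx⟩)).mp (by rwa [map_mul]))
    (Or.imp (fun e => (hρ (⟨y, hy⟩ * ⟨y, hy⟩)).mp (by rwa [map_mul])) fun e =>
      (hρ (⟨x, hx⟩ * ⟨x, hx⟩ * (⟨y, hy⟩ * ⟨y, hy⟩))).mp (by rwa [map_mul, map_mul, map_mul]))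

end Cfsg.Agent.S3330
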