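import Cfsg.Statements.S3702
import Cfsg.Agent.Char.A9End
import Cfsg.Agent.Local.Fitting

set_option autoImplicit false
open Cfsg

namespace Cfsg.Agent.S3702

open Char Char.A9 Subgroup

def c1 : Equiv.Perm (Fin 9) := Equiv.swap (0 : Fin 9) 1 * Equiv.swap 1 2
def c2 : Equiv.Perm (Fin 9) := Equiv.swap (3 : Fin 9) 4 * Equiv.swap 4 5
def c3 : Equiv.Perm (Fin 9) := Equiv.swap (6 : Fin 9) 7 * Equiv.swap 7 8
def s1 : Equiv.Perm (Fin 9) := Equiv.swap (0 : Fin 9) 3 * Equiv.swap 3 6 *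
  (Equiv.swap (1 : Fin 9) 4 * Equiv.swap 4 7) * (Equiv.swap (2 : Fin 9) 5 * Equiv.swap 5 8)
def t1 : Equiv.Perm (Fin 9) := Equiv.swap (0 : Fin 9) 1 * Equiv.swap 3 4
def u1 : Equiv.Perm (Fin 9) :=
  Equiv.swap (0 : Fin 9) 3 * Equiv.swap 1 4 * Equiv.swap 2 5 * Equiv.swap 6 7
def d1 : Equiv.Perm (Fin 9) := Equiv.swap (0 : Fin 9) 1 * Equiv.swap 6 7
def d2 : Equiv.Perm (Fin 9) := Equiv.swap (3 : Fin 9) 4 * Equiv.swap 6 7
def gens : Set (Equiv.Perm (Fin 9)) := {c1, s1, t1, u1}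
def pe (v : V27) : Equiv.Perm (Fin 9) := c1 ^ v.1.val * c2 ^ v.2.1.val * c3 ^ v.2.2.val
def pv (i : I24) : Equiv.Perm (Fin 9) :=
  (bif i.2.2.1 ^^ (i.2.1 && i.1 == 1) then d1 else 1) *
    (bif i.2.2.2 ^^ (i.2.1 && i.1 == 2) then d2 else 1) * s1 ^ i.1.val * (bif i.2.1 then u1 else 1)
def pf (x : X648) : Equiv.Perm (Fin 9) := pe x.2 * pv x.1

theorem pe_add : ∀ u v, pe (u + v) = pe u * pe v := by decide +kernel
theorem pv_conj : ∀ i v, pv i * pe v = pe (act i v) * pv i := by decide +kernel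
theorem pv_mul : ∀ i k, pv (mi i k) = pv i * pv k := by decide +kernel
theorem pv_fix : ∀ i, (pv i 2).val % 3 = 2 ∧ (pv i 5).val % 3 = 2 ∧ (pv i 8).val % 3 = 2 := by
  decide +kernel
theorem pe_fix : ∀ v, (pe v 2).val % 3 = 2 → (pe v 5).val % 3 = 2 → (pe v 8).val % 3 = 2 →
    v = 0 := by decide +kernel
theorem pv_inj : ∀ i k, pv i = pv k → i = k := by decide +kernel
theorem pv_inv : ∀ i, ∃ k, mi i k = i0 := by decide +kernel

theorem pf_mul (x y : X648) : pf (mx x y) = pf x * pf y := by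
  change pe (x.2 + act x.1 y.2) * pv (mi x.1 y.1) = pe x.2 * pv x.1 * (pe y.2 * pv y.1)
  rw [pe_add, pv_mul, mul_assoc (pe x.2) (pv x.1), ← mul_assoc (pv x.1), pv_conj]
  group

theorem pf_inj : Function.Injective pf := by
  rintro ⟨i, v⟩ ⟨k, w⟩ (h : pe v * pv i = pe w * pv k)
  obtain ⟨m, hm⟩ := pv_inv i
  have h1 : pe (v - w) = pv (mi k m) := by
    have h2 : pv i * pv m = 1 := by rw [← pv_mul, hm]; decide
    have h3 := pe_add w (v - w)
    rw [add_sub_cancel] at h3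
    rw [h3, mul_assoc, mul_right_inj] at h
    rw [pv_mul, ← h, mul_assoc, h2, mul_one]
  obtain ⟨a, b, c⟩ := pv_fix (mi k m)
  rw [← h1] at a b c
  obtain rfl := sub_eq_zero.mp (pe_fix _ a b c)
  rw [pv_inj i k (mul_left_cancel h)]

theorem pf_mem (x : X648) : pf x ∈ closure gens := by
  have h1 : c1 ∈ closure gens := subset_closure (by simp [gens])
  have h2 : s1 ∈ closure gens := subset_closure (by simp [gens])
  have h3 : t1 ∈ closure gens := subset_closure (by simp [gens])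
  have h4 : u1 ∈ closure gens := subset_closure (by simp [gens])
  have h5 : c2 ∈ closure gens := by
    rw [show c2 = s1 * c1 * s1⁻¹ by decide]
    exact mul_mem (mul_mem h2 h1) (inv_mem h2)
  have h6 : c3 ∈ closure gens := by
    rw [show c3 = s1 * c2 * s1⁻¹ by decide]
    exact mul_mem (mul_mem h2 h5) (inv_mem h2)
  have h7 : d2 ∈ closure gens := by
    rw [show d2 = s1 * t1 * s1⁻¹ by decide]
    exact mul_mem (mul_mem h2 h3) (inv_mem h2)
  have h8 : d1 ∈ closure gens := by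
    rw [show d1 = t1 * d2 by decide]
    exact mul_mem h3 h7
  have h9 : ∀ (b : Bool) (g : Equiv.Perm (Fin 9)), g ∈ closure gens →
      (bif b then g else 1) ∈ closure gens := by
    rintro (_ | _) g hg
    exacts [one_mem _, hg]
  exact mul_mem (mul_mem (mul_mem (pow_mem h1 _) (pow_mem h5 _)) (pow_mem h6 _))
    (mul_mem (mul_mem (mul_mem (h9 _ _ h8) (h9 _ _ h7)) (pow_mem h2 _)) (h9 _ _ h4))

theorem mem_gens (g : Equiv.Perm (Fin 9)) : g ∈ closure gens ↔ ∃ x, pf x = g := by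
  refine mem_closure_iff_of_param gens pf ⟨(i0, 0), by decide⟩ (fun g hg x => ?_) pf_mem g
  rcases hg with rfl | rfl | rfl | rfl
  · exact ⟨mx (i0, 1, 0, 0) x, by rw [pf_mul, mul_left_inj]; decide⟩
  · exact ⟨mx ((1, false, false, false), 0) x, by rw [pf_mul, mul_left_inj]; decide⟩
  · exact ⟨mx (rep 10) x, by rw [pf_mul, mul_left_inj]; decide⟩
  · exact ⟨mx (rep 12) x, by rw [pf_mul, mul_left_inj]; decide⟩

def ci (i : I24) : I24 := mi (mi i i) i

theorem mx_one (x y : X648) : (mx x y).1 = mi x.1 y.1 := rfl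

theorem ci_ne : ∀ i, ci (ci (ci (ci i))) = i0 →
    ci (ci (ci (ci (mi (mi i i) (mi (mi (rep 10).1 i) (rep 10).1))))) = i0 → i = i0 := by
  decide +kernel


/-- Let K ≤ Sym(9) be generated by (1 2 3), (1 4 7)(2 5 8)(3 6 9), (1 2)(4 5) and (1 4)(2 5)(3 6)(7 8) (the normalizer in Alt(9) of the elementary abelian group generated by (1 2 3), (4 5 6), (7 8 9)). Let G be a finite group with a subgroup H ≅ K and J = O₃(H). If C_G(j) ≤ H for every j ≠ 1 in J and J is strongly closed in H with respect to G (a G-conjugate of an element of J lying in H lies in J), then G = H. -/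
theorem result {G : Type*} [Group G] [Finite G] (H : Subgroup G)
    (hH : Nonempty (↥H ≃* ↥(Subgroup.closure ({Equiv.swap (0 : Fin 9) 1 * Equiv.swap 1 2,
        Equiv.swap (0 : Fin 9) 3 * Equiv.swap 3 6 * (Equiv.swap (1 : Fin 9) 4 * Equiv.swap 4 7) * (Equiv.swap (2 : Fin 9) 5 * Equiv.swap 5 8),
        Equiv.swap (0 : Fin 9) 1 * Equiv.swap 3 4, Equiv.swap (0 : Fin 9) 3 * Equiv.swap 1 4 * Equiv.swap 2 5 * Equiv.swap 6 7} : Set (Equiv.Perm (Fin 9))))))
    (J : Subgroup G) (hJ : J = (Cfsg.pCore 3 ↥H).map H.subtype)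
    (hC : ∀ j ∈ J, j ≠ 1 → Subgroup.centralizer ({j} : Set G) ≤ H) (hsc : Cfsg.IsStronglyClosed J H) : H = ⊤ := by
  change Nonempty (H ≃* closure gens) at hH
  obtain ⟨ι⟩ := hH
  let φ : closure gens →* G := H.subtype.comp ι.symm.toMonoidHom
  have hφ : Function.Injective φ := H.subtype_injective.comp ι.symm.injective
  let F : X648 → G := fun x => φ ⟨pf x, pf_mem x⟩
  have hM : Mod H F := by
    refine ⟨fun x y => ?_, fun x y h => pf_inj (congrArg Subtype.val (hφ h)),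
      fun g => ⟨fun hg => ?_, fun ⟨x, hx⟩ => hx ▸ (ι.symm ⟨pf x, pf_mem x⟩).2⟩⟩
    · rw [← map_mul]
      exact congrArg φ (Subtype.ext (pf_mul x y))
    · obtain ⟨x, hx⟩ := (mem_gens _).mp (ι ⟨g, hg⟩).2
      refine ⟨x, ?_⟩
      change ((ι.symm ⟨pf x, _⟩ : H) : G) = g
      rw [show (⟨pf x, pf_mem x⟩ : closure gens) = ι ⟨g, hg⟩ from Subtype.ext hx]
      simp
  clear_value F
  have hadd : ∀ u v, F (i0, u + v) = F (i0, u) * F (i0, v) := fun u v => by rw [← hM.mul, mx_jj]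
  have hp : Param J (fun v => F (i0, v)) := by
    refine ⟨hadd, fun u v h => congrArg Prod.snd (hM.inj h), fun g => ⟨fun hg => ?_, ?_⟩⟩
    · have h81 : ∀ z, F z ∈ J → ci (ci (ci (ci z.1))) = i0 := by
        intro z hz
        rw [hJ] at hz
        obtain ⟨a, ha, e⟩ := hz
        obtain ⟨k, hk⟩ := Local.isPGroup_pCore 3 ⟨a, ha⟩
        have h1 : a ^ 3 ^ k = 1 := congrArg Subtype.val hk
        have h2 := orderOf_dvd_natCard a
        rw [hM.card] at h2
        have h3 : a ^ 81 = 1 := by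
          rw [← orderOf_dvd_iff_pow_eq_one] at h1 ⊢
          exact ((Nat.Coprime.pow_right k (by norm_num : Nat.Coprime 8 3)).coprime_dvd_right
            h1).symm.dvd_of_dvd_mul_left (k := orderOf a) (n := 81) (m := 8) h2
        have h4 : ∀ x, F (mx (mx x x) x) = F x ^ 3 := fun x => by rw [hM.mul, hM.mul, pow_three']
        have h5 : (((F z ^ 3) ^ 3) ^ 3) ^ 3 = 1 := by
          rw [← pow_mul, ← pow_mul, ← pow_mul, ← e, ← map_pow, h3, map_one]
        rw [← h4, ← h4, ← h4, ← h4, ← hM.one] at h5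
        have h6 := congrArg Prod.fst (hM.inj h5)
        simp only [mx_one] at h6
        exact h6
      obtain ⟨⟨i, v⟩, rfl⟩ := (hM.mem g).mp (hsc.1 hg)
      have tt : F (rep 10) * F (rep 10) = 1 := by rw [← hM.mul, ← hM.one]; rfl
      have h1 : F (rep 10) * F (i, v) * (F (rep 10))⁻¹ ∈ J :=
        hsc.2 _ hg _ (mul_mem (mul_mem (hM.mem' _) (hM.mem' _)) (inv_mem (hM.mem' _)))
      rw [inv_eq_of_mul_eq_one_right tt] at h1
      have h2 := mul_mem (mul_mem hg hg) h1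
      rw [← hM.mul, ← hM.mul, ← hM.mul, ← hM.mul] at h2
      have h3 := h81 _ h2
      simp only [mx_one] at h3
      have h4 := h81 _ hg
      obtain rfl := ci_ne i h4 h3
      exact ⟨v, rfl⟩
    · rintro ⟨v, rfl⟩
      let ψ : Multiplicative V27 →* G := MonoidHom.mk' (fun v => F (i0, v.toAdd)) hadd
      have h1 : ψ.range.subgroupOf H ≤ pCore 3 H := by
        refine Local.le_pCore ⟨?_⟩ ?_
        · rintro ⟨_, ha⟩ ⟨w, rfl⟩ ⟨g, hg⟩
          obtain ⟨x, rfl⟩ := (hM.mem g).mp hg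
          exact ⟨Multiplicative.ofAdd (act x.1 w.toAdd), (hM.conj_j x _).symm⟩
        · rintro ⟨⟨a, ha⟩, w, hw⟩
          refine ⟨1, Subtype.ext (Subtype.ext ?_)⟩
          change a ^ 3 = 1
          rw [show a = ψ w from hw.symm, ← map_pow, show w ^ 3 = 1 by rw [pow_three']; exact V27_three w, map_one]
      rw [hJ]
      exact ⟨⟨_, hM.mem' _⟩, h1 ⟨Multiplicative.ofAdd v, rfl⟩, rfl⟩
  exact Hyp.eq_top ⟨hM, hp, hM.conj_mem hp hC hsc.2⟩

end Cfsg.Agent.S3702
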