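import Cfsg.Statements.S3339
import Cfsg.Agent.Char.A9Fin
import Cfsg.Agent.S3702

set_option autoImplicit false
open Cfsg

namespace Cfsg.Agent.S3339

open Char Char.A9 Subgroup Local S3702

theorem blk : ∀ v a, (pe v a).val / 3 = a.val / 3 := by decide +kernel

theorem sift : ∀ a0 a1 : Fin 9, a1 ≠ a0 → a1.val / 3 = a0.val / 3 → ∀ a3 : Fin 9,
    a3.val / 3 ≠ a0.val / 3 → ∀ a4 : Fin 9, a4 ≠ a3 → a4.val / 3 = a3.val / 3 → ∀ a6 : Fin 9,
    a6.val / 3 ≠ a0.val / 3 → a6.val / 3 ≠ a3.val / 3 → ∃ i, (pv i 0).val / 3 = a0.val / 3 ∧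
      (pv i 3).val / 3 = a3.val / 3 ∧ ∃ v, pe v (pv i 0) = a0 ∧ pe v (pv i 1) = a1 ∧
        pe v (pv i 3) = a3 ∧ pe v (pv i 4) = a4 ∧ pe v (pv i 6) = a6 := by decide +kernel

def J0 : Subgroup (Equiv.Perm (Fin 9)) := closure {c1, c2, c3}

theorem mem_J0 (g : Equiv.Perm (Fin 9)) : g ∈ J0 ↔ ∃ v, pe v = g := by
  refine mem_closure_iff_of_param _ pe ⟨0, by decide⟩ (fun g hg x => ?_) (fun v => ?_) g
  · rcases hg with rfl | rfl | rfl
    · exact ⟨(1, 0, 0) + x, by rw [pe_add, mul_left_inj]; decide⟩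
    · exact ⟨(0, 1, 0) + x, by rw [pe_add, mul_left_inj]; decide⟩
    · exact ⟨(0, 0, 1) + x, by rw [pe_add, mul_left_inj]; decide⟩
  · exact mul_mem (mul_mem (pow_mem (subset_closure (by simp)) _) (pow_mem (subset_closure
      (by simp)) _)) (pow_mem (subset_closure (by simp)) _)

theorem pf_norm (x : X648) : pf x ∈ alternatingGroup (Fin 9) ⊓ normalizer (J0 : Set _) := by
  refine ⟨(closure_le (alternatingGroup (Fin 9))).mpr ?_ (pf_mem x), mem_normalizer_of_conj_mem ?_⟩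
  · rintro _ (rfl | rfl | rfl | rfl) <;> exact Equiv.Perm.mem_alternatingGroup.mpr (by decide)
  · intro j hj
    obtain ⟨v, rfl⟩ := (mem_J0 j).mp hj
    refine (mem_J0 _).mpr ⟨act x.1 v, ?_⟩
    rw [pf, mul_assoc (pe x.2), pv_conj, ← mul_assoc, ← pe_add, add_comm, pe_add, mul_assoc,
      mul_assoc, ← mul_assoc (pe x.2), mul_inv_cancel, mul_one]

theorem blk' {g : Equiv.Perm (Fin 9)} (hg : g ∈ normalizer (J0 : Set (Equiv.Perm (Fin 9))))
    {a b : Fin 9} (e : a.val / 3 = b.val / 3) : (g a).val / 3 = (g b).val / 3 := by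
  obtain ⟨v, rfl⟩ := (by decide +kernel : ∀ a b : Fin 9, a.val / 3 = b.val / 3 → ∃ v, pe v b = a) a b e
  obtain ⟨w, hw⟩ := (mem_J0 _).mp (conj_mem_of_mem_normalizer hg ((mem_J0 _).mpr ⟨v, rfl⟩))
  rw [← blk w (g b), hw]
  simp

theorem mem_norm (g : Equiv.Perm (Fin 9)) :
    g ∈ alternatingGroup (Fin 9) ⊓ normalizer (J0 : Set _) ↔ ∃ x, pf x = g := by
  refine ⟨fun hg => ?_, by rintro ⟨x, rfl⟩; exact pf_norm x⟩
  have h1 : ∀ {a b : Fin 9}, a.val / 3 ≠ b.val / 3 → (g a).val / 3 ≠ (g b).val / 3 :=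
    fun h e => h (by simpa using blk' (inv_mem hg.2) e)
  obtain ⟨i, -, -, v, e0, e1, e3, e4, e6⟩ := sift (g 0) (g 1) (by simp) (blk' hg.2 rfl) (g 3)
    (h1 (by decide)) (g 4) (by simp) (blk' hg.2 rfl) (g 6) (h1 (by decide)) (h1 (by decide))
  have h2 := mul_mem (inv_mem hg) (pf_norm (i, v))
  have h3 : ∀ a, pe v (pv i a) = g a → (g⁻¹ * pf (i, v)) a = a := fun a e => by
    simp [pf, e]
  refine ⟨(i, v), ?_⟩
  rw [eq_comm, ← inv_mul_eq_one]
  have f0 := h3 _ e0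
  have f1 := h3 _ e1
  have f3 := h3 _ e3
  have f4 := h3 _ e4
  have f6 := h3 _ e6
  generalize g⁻¹ * pf (i, v) = k at *
  have f : ∀ a b, k b = b → k a = b → a = b := fun a b e e' => k.injective (e'.trans e.symm)
  have f2 : k 2 = 2 := by
    have := blk' h2.2 (a := 2) (b := 0) rfl
    have := f 2 0 f0
    have := f 2 1 f1
    omega
  have f5 : k 5 = 5 := by
    have := blk' h2.2 (a := 5) (b := 3) rfl
    have := f 5 3 f3
    have := f 5 4 f4
    omega
  have := blk' h2.2 (a := 7) (b := 6) rfl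
  have := blk' h2.2 (a := 8) (b := 6) rfl
  have := f 7 6 f6
  have := f 8 6 f6
  have : k 7 = k 8 → (7 : Fin 9) = 8 := fun e => k.injective e
  obtain ⟨f7, f8⟩ | ⟨f7, f8⟩ : (k 7 = 7 ∧ k 8 = 8) ∨ (k 7 = 8 ∧ k 8 = 7) := by omega
  · ext a
    fin_cases a <;> simp [*]
  · have : k = Equiv.swap 7 8 := by
      ext a
      fin_cases a <;> simp [*] <;> decide
    exact absurd (Equiv.Perm.mem_alternatingGroup.mp h2.1) (by rw [this]; decide)


/-- A 3-local characterization of the alternating group of degree 9. Let G be a finite group and J ≤ G an elementary abelian subgroup of order 27 whose normalizer H = N_G(J) is isomorphic to the normalizer, in the alternating group of degree 9, of the subgroup generated by three disjoint 3-cycles. If O_{3'}(C_G(x)) = 1 for every element x of order 3 in H, then either G = H or G is isomorphic to the alternating group of degree 9. -/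
theorem result {G : Type*} [Group G] [Finite G]
    (J : Subgroup G) (hJcomm : IsMulCommutative J) (hJexp : ∀ a ∈ J, a ^ 3 = 1) (hJcard : Nat.card J = 27)
    (H : Subgroup G) (hH : H = Subgroup.normalizer (J : Set G))
    (J₀ : Subgroup (Equiv.Perm (Fin 9)))
    (hJ₀ : J₀ = Subgroup.closure {Equiv.swap (0 : Fin 9) 1 * Equiv.swap 1 2, Equiv.swap (3 : Fin 9) 4 * Equiv.swap 4 5, Equiv.swap (6 : Fin 9) 7 * Equiv.swap 7 8})
    (eH : H ≃* ↥(alternatingGroup (Fin 9) ⊓ Subgroup.normalizer (J₀ : Set (Equiv.Perm (Fin 9)))))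
    (hcores : ∀ x ∈ H, orderOf x = 3 → Cfsg.pPrimeCore 3 (Subgroup.centralizer ({x} : Set G)) = ⊥) :
    H = ⊤ ∨ Nonempty (G ≃* alternatingGroup (Fin 9)) := by
  obtain rfl : J₀ = J0 := hJ₀
  let φ := H.subtype.comp eH.symm.toMonoidHom
  have hφ : Function.Injective φ := H.subtype_injective.comp eH.symm.injective
  let F : X648 → G := fun x => φ ⟨pf x, pf_norm x⟩
  have hM : Mod H F := by
    refine ⟨fun x y => ?_, fun x y h => pf_inj (congrArg Subtype.val (hφ h)),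
      fun g => ⟨fun hg => ?_, fun ⟨x, hx⟩ => hx ▸ (eH.symm ⟨pf x, pf_norm x⟩).2⟩⟩
    · rw [← map_mul]
      exact congrArg φ (Subtype.ext (pf_mul x y))
    · obtain ⟨x, hx⟩ := (mem_norm _).mp (eH ⟨g, hg⟩).2
      refine ⟨x, ?_⟩
      change ((eH.symm ⟨pf x, _⟩ : H) : G) = g
      rw [show (⟨pf x, pf_norm x⟩ : ↥(alternatingGroup (Fin 9) ⊓ normalizer (J0 : Set _))) =
        eH ⟨g, hg⟩ from Subtype.ext hx]
      simp
  clear_value F
  have hJ : J ≤ H := hH ▸ le_normalizer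
  have hcm : ∀ a ∈ J, ∀ b ∈ J, a * b = b * a := fun a ha b hb =>
    congrArg Subtype.val (hJcomm.is_comm.comm ⟨a, ha⟩ ⟨b, hb⟩)
  have h1 : ∀ j : J, ∃ v, F (i0, v) = j := fun j => by
    obtain ⟨y, hy⟩ := (hM.mem _).mp (hJ j.2)
    refine ⟨y.2, ?_⟩
    rw [← hy]
    by_contra h1
    obtain ⟨k, hk, e⟩ := hM.hc_sx (y := y) (hy ▸ hJexp _ j.2) fun e => h1 (by rw [← e])
    have h2 := hM.card_filter (fun x => x ∈ H ∧ x * F sx = F sx * x) _ (fun _ hx => hx.1)
      (fun z => by rw [and_iff_right (hM.mem' z), hM.cm])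
    rw [card_cent_sx] at h2
    have h3 := Nat.card_le_card_of_injective (fun a : J => (⟨k * a * k⁻¹,
      mul_mem (mul_mem hk (hJ a.2)) (inv_mem hk), by
        rw [← e, hy, conj_mul, conj_mul, hcm _ a.2 _ j.2]⟩ :
        {x // x ∈ H ∧ x * F sx = F sx * x})) fun a b e => by simpa using e
    omega
  choose f hf using h1
  have h2 : Function.Surjective f := ((Nat.bijective_iff_injective_and_card f).mpr
    ⟨fun a b e => Subtype.ext (by rw [← hf, ← hf, e]), by simp [hJcard]⟩).2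
  have h : Loc H J F := ⟨hM, ⟨fun u v => by rw [← hM.mul, mx_jj],
    fun u v h => congrArg Prod.snd (hM.inj h), fun g => ⟨fun hg => ⟨_, hf ⟨g, hg⟩⟩, by
      rintro ⟨v, rfl⟩
      obtain ⟨j, rfl⟩ := h2 v
      exact hf j ▸ j.2⟩⟩, fun g hg => hH ▸ mem_normalizer_of_conj_mem hg⟩
  exact h.eq_top_or fun v hv => hcores _ (h.mem' _) (h.ord hv)

end Cfsg.Agent.S3339
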