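import Cfsg.Statements.S3342
import Cfsg.Agent.P43.Fin

set_option autoImplicit false
open Cfsg Subgroup Cfsg.Agent.Local Cfsg.Agent.Char Cfsg.Agent.P43

namespace Cfsg.Agent.S3342

/-- Let G be a finite group and a ∈ G an element of order 3 whose centralizer C has O₃(C) extraspecial of order 27 and exponent 3 with C/O₃(C) isomorphic to SL(2,3), and suppose some elementary abelian J ≤ C of order 27 normalizes no non-trivial subgroup of G of order prime to 3. If a is not conjugate to its inverse, then G has a normal subgroup of index 3 or G is isomorphic to PSp(4,3). If a is conjugate to its inverse, then ⟨a⟩ is normal in G, or G is isomorphic to the full automorphism group of PSp(4,3), or G is isomorphic to Sp(6,2). -/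
theorem result {G : Type*} [Group G] [Finite G]
    (a : G) (ha : orderOf a = 3) (C : Subgroup G) (hC : C = Subgroup.centralizer ({a} : Set G))
    (hR : Cfsg.IsExtraspecial 3 (Cfsg.pCore 3 C)) (hRcard : Nat.card (Cfsg.pCore 3 C) = 27)
    (hRexp : ∀ r ∈ Cfsg.pCore 3 C, r ^ 3 = 1)
    (e : C ⧸ Cfsg.pCore 3 C ≃* Matrix.SpecialLinearGroup (Fin 2) (ZMod 3))
    (J : Subgroup G) (hJC : J ≤ C) (hJcomm : IsMulCommutative J) (hJexp : ∀ j ∈ J, j ^ 3 = 1) (hJcard : Nat.card J = 27)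
    (hJsig : ∀ K : Subgroup G, (Nat.card K).Coprime 3 → (∀ j ∈ J, K.map (MulAut.conj j).toMonoidHom = K) → K = ⊥)
    (F : Type*) [Field F] [Fintype F] (hF : Fintype.card F = 3)
    (F₂ : Type*) [Field F₂] [Fintype F₂] (hF₂ : Fintype.card F₂ = 2) :
    ((∀ g : G, g * a * g⁻¹ ≠ a⁻¹) →
      (∃ N : Subgroup G, N.Normal ∧ N.index = 3) ∨ Nonempty (G ≃* Cfsg.PSp 2 F)) ∧
    ((∃ g : G, g * a * g⁻¹ = a⁻¹) →
      Subgroup.normalizer (Subgroup.zpowers a : Set G) = ⊤ ∨ Nonempty (G ≃* MulAut (Cfsg.PSp 2 F)) ∨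
        Nonempty (G ≃* Matrix.symplecticGroup (Fin 3) F₂)) := by
  have := pCore_normal 3 C
  obtain ⟨φ, h1, h2, -⟩ := exists_base ha hC hR hRcard hRexp e hJC hJcomm hJexp hJcard
    fun K h1 h2 => hJsig K h1 fun j hj => mem_normalizer_iff_map_conj_eq.mp (h2 hj)
  obtain ⟨θ⟩ := exists_equivP hF
  have h3 : ∀ g, g * φ L.z * g⁻¹ = (φ L.z)⁻¹ ↔ g * a * g⁻¹ = a⁻¹ := fun g => by
    rcases h2 with e | e <;> rw [e]
    rw [← conj_inv, inv_inj]
  refine ⟨fun hr => ?_, fun ⟨g, hg⟩ => ?_⟩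
  · have h4 := fun g e => hr g ((h3 g).mp e)
    obtain h5 | ⟨ψ, n, h5, -, -, h6⟩ := h1.nonreal h4
    · exact Or.inl (h1.case1a h4 h5)
    · exact Or.inr ((NR.iso ⟨h5, h6⟩).map (·.trans θ))
  obtain ⟨ψ, t, h4, h5, -, h6⟩ := h1.real ⟨g, (h3 g).mpr hg⟩
  obtain ⟨t', h7, h8⟩ := h4.norm
  obtain h6 | ⟨n, h6, h9, h10⟩ := h6
  · refine Or.inl ?_
    rw [← h7.case2a h6, h5]
    rcases h2 with e | e <;> rw [e]
    rw [zpowers_inv]
  obtain ⟨θ₁⟩ := exists_equivW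
  obtain ⟨θ₂⟩ := exists_equivS hF₂
  have h11 : ∀ {M : Type} [Group M] {A : Subgroup M}, (G ≃* MulAut A) → (A ≃* PSp 2 F) →
      Nonempty (G ≃* MulAut (PSp 2 F)) := fun e e' => ⟨e.trans (MulAut.congr e')⟩
  exact Or.inr ((RR.iso ⟨h6, h7, h8 n h6 h9, h10⟩).imp
    (fun ⟨e⟩ => h11 (e.trans θ₁) θ) (Nonempty.map (·.trans θ₂)))

end Cfsg.Agent.S3342
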