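import Cfsg.Statements.S3343
import Cfsg.Agent.Char.B3Set
import Cfsg.Agent.S3702

set_option autoImplicit false
open Cfsg

namespace Cfsg.Agent.S3343

open Char Char.B3 Subgroup Local S3702 Equiv

def x0 : Perm (Fin 9) := Equiv.swap (0 : Fin 9) 1 * Equiv.swap 1 2 * Equiv.swap 3 4 *
  Equiv.swap 4 5 * Equiv.swap 6 7 * Equiv.swap 7 8
def u0 : Perm (Fin 9) := Equiv.swap (0 : Fin 9) 3 * Equiv.swap 1 4 * Equiv.swap 2 5
def pp (ρ : ZMod 3) (ε : Bool) : Perm (Fin 9) := s1 ^ ρ.val * (bif ε then u0 else 1)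

theorem pp_mul : ∀ ρ ε ρ' ε', pp (A9.ad ρ (A9.sg ε ρ')) (ε ^^ ε') = pp ρ ε * pp ρ' ε' := by
  decide +kernel

theorem pp_act : ∀ ρ ε v, pp ρ ε * pe v = pe (act (pI ρ ε) v) * pp ρ ε := by decide +kernel

theorem comm_x0 : (∀ v, pe v * x0 = x0 * pe v) ∧ (∀ ρ ε, pp ρ ε * x0 = x0 * pp ρ ε) ∧
    (∀ v, pe v = 1 → v = 0) ∧ ∀ a : Fin 9, ∃ n : Fin 3, ∃ b, (b = 0 ∨ b = 3 ∨ b = 6) ∧
      (x0 ^ n.val) b = a := by
  decide +kernel

theorem sift : ∀ a0 a3 : Fin 9, (∀ n : Fin 3, (x0 ^ n.val) a0 ≠ a3) → ∀ a6 : Fin 9,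
    (∀ n : Fin 3, (x0 ^ n.val) a0 ≠ a6) → (∀ n : Fin 3, (x0 ^ n.val) a3 ≠ a6) →
    ∃ ρ ε, (pp ρ ε 0).val / 3 = a0.val / 3 ∧ (pp ρ ε 3).val / 3 = a3.val / 3 ∧
      ∃ v, pe v (pp ρ ε 0) = a0 ∧ pe v (pp ρ ε 3) = a3 ∧ pe v (pp ρ ε 6) = a6 := by decide +kernel

theorem cent_x0 {g : Perm (Fin 9)} (hg : g * x0 = x0 * g) : ∃ v ρ ε, pe v * pp ρ ε = g := by
  have h1 : ∀ {k : Perm (Fin 9)}, k * x0 = x0 * k → ∀ n a, (x0 ^ n) (k a) = k ((x0 ^ n) a) :=
    fun hk n a => by rw [← Perm.mul_apply, ← (Commute.pow_right hk n).eq, Perm.mul_apply]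
  have h2 : ∀ a b, (∀ n : Fin 3, (x0 ^ n.val) a ≠ b) → ∀ n : Fin 3, (x0 ^ n.val) (g a) ≠ g b :=
    fun a b h n e => h n (g.injective (h1 hg n a ▸ e))
  obtain ⟨ρ, ε, -, -, v, e0, e3, e6⟩ := sift (g 0) (g 3) (h2 _ _ (by decide)) (g 6)
    (h2 _ _ (by decide)) (h2 _ _ (by decide))
  refine ⟨v, ρ, ε, Equiv.ext fun a => ?_⟩
  obtain ⟨n, b, hb, rfl⟩ := comm_x0.2.2.2 a
  rw [← h1 hg, ← h1 (Commute.mul_left (comm_x0.1 v) (comm_x0.2.1 ρ ε))]
  rcases hb with rfl | rfl | rfl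
  exacts [congrArg _ e0, congrArg _ e3, congrArg _ e6]

/-- Let G be a finite group with an element x of order 3 whose centralizer is isomorphic to the centralizer in the symmetric group of degree 9 of a product of three disjoint 3-cycles, and let J ≤ C_G(x) be elementary abelian of order 27 normalizing no non-trivial subgroup of G of order prime to 3. Then either J is normal in G or G is isomorphic to the symmetric group of degree 9. -/
theorem result {G : Type*} [Group G] [Finite G]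
    (x : G) (hx : orderOf x = 3)
    (eC : Subgroup.centralizer ({x} : Set G) ≃*
      Subgroup.centralizer ({Equiv.swap (0 : Fin 9) 1 * Equiv.swap 1 2 * Equiv.swap 3 4 * Equiv.swap 4 5 * Equiv.swap 6 7 * Equiv.swap 7 8} : Set (Equiv.Perm (Fin 9))))
    (J : Subgroup G) (hJC : J ≤ Subgroup.centralizer ({x} : Set G)) (hJcomm : IsMulCommutative J)
    (hJexp : ∀ j ∈ J, j ^ 3 = 1) (hJcard : Nat.card J = 27)
    (hJsig : ∀ K : Subgroup G, (Nat.card K).Coprime 3 → (∀ j ∈ J, K.map (MulAut.conj j).toMonoidHom = K) → K = ⊥) :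
    J.Normal ∨ Nonempty (G ≃* Equiv.Perm (Fin 9)) := by
  change centralizer {x} ≃* centralizer {x0} at eC
  let φ := (centralizer {x}).subtype.comp eC.symm.toMonoidHom
  have hφ : Function.Injective φ := (subtype_injective _).comp eC.symm.injective
  have h1 : ∀ g, g * x = x * g ↔ ∃ a, φ a = g := fun g => mem_centralizer_singleton_iff.symm.trans
    ⟨fun hg => ⟨eC ⟨g, hg⟩, by simp [φ]⟩, by rintro ⟨a, rfl⟩; exact (eC.symm a).2⟩
  clear_value φ
  let e : V27 → G := fun v => φ ⟨pe v, mem_centralizer_singleton_iff.mpr (comm_x0.1 v)⟩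
  let σ : I48 → G := fun i => φ ⟨pp i.1 i.2.1, mem_centralizer_singleton_iff.mpr (comm_x0.2.1 _ _)⟩
  have add : ∀ u v, e (u + v) = e u * e v := fun u v => by
    rw [← map_mul]; exact congrArg φ (Subtype.ext (pe_add u v))
  let ψ : Multiplicative V27 →* G := MonoidHom.mk' (fun v => e v.toAdd) add
  have h : Sg false false ψ.range e σ := ⟨⟨add, (injective_iff_map_eq_one ψ).mpr fun v hv =>
    comm_x0.2.2.1 _ (congrArg Subtype.val ((map_eq_one_iff φ hφ).mp hv)), fun g => Iff.rfl⟩,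
    fun i hi v => by
      rw [mul_inv_eq_iff_eq_mul, ← map_mul, ← map_mul, diag_facts.2.1 i hi]
      exact congrArg φ (Subtype.ext (pp_act _ _ v)), fun i k _ _ => by
      rw [← map_mul]
      exact congrArg φ (Subtype.ext (pp_mul _ _ _ _))⟩
  have h2 : ∀ g, g * x = x * g → ∃ y : X, ok false false y.1 ∧ e y.2 * σ y.1 = g := fun g hg => by
    obtain ⟨⟨a, ha⟩, rfl⟩ := (h1 g).mp hg
    obtain ⟨v, ρ, ε, rfl⟩ := cent_x0 (mem_centralizer_singleton_iff.mp ha)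
    exact ⟨(pI ρ ε, v), ok_perm .., (map_mul φ _ _).symm⟩
  have h3 : ∀ i, σ i * x = x * σ i := fun i => (h1 _).mpr ⟨_, rfl⟩
  have h4 : ∀ v, e v * x = x * e v := fun i => (h1 _).mpr ⟨_, rfl⟩
  generalize ψ.range = J0 at h
  clear_value e σ
  obtain rfl := h.eq_J (fun a ha => h2 a (mem_centralizer_singleton_iff.mp (hJC ha)))
    (fun a ha b hb => congrArg Subtype.val (hJcomm.is_comm.comm ⟨a, ha⟩ ⟨b, hb⟩)) hJexp hJcard
  obtain ⟨⟨i, v⟩, h5, rfl⟩ := h2 x rfl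
  have h6 := fun w => (h.acts h5 v).fix h.par (h4 w).symm
  obtain rfl : i = i0 := act_faith i (h6 _) (h6 _) (h6 _)
  rw [h.one, mul_one] at hx h2 h3
  obtain ⟨δ, m, F, hM⟩ := h.exists_M (fun g hg => h2 g (by
    rcases (by decide : ∀ v, act yI v = v → v = 0 ∨ v = (1, 1, 1) ∨ v = -(1, 1, 1)) v
      ((h.act yI oky).fix h.par (h3 _)) with rfl | rfl | rfl
    · rw [h.par.zero, mul_one, one_mul]
    · exact hg
    · rw [h.par.neg]
      exact (Commute.inv_right hg).eq)) fun K k1 k2 => hJsig K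
    ((Nat.Prime.coprime_iff_not_dvd Nat.prime_three).mpr k1).symm fun j hj =>
      mem_normalizer_iff_conj_smul_eq.mp (k2 hj)
  exact hM.main

end Cfsg.Agent.S3343
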