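import Cfsg.Statements.S3344
import Cfsg.Agent.M12C.Main

set_option autoImplicit false
open Cfsg Subgroup Cfsg.Agent.M12C Cfsg.Agent.Local

namespace Cfsg.Agent.S3344

/-- Let G be a finite group with an involution s, L = C_G(s) and Q = O₂(L). Suppose Q is extraspecial of order 32, L/Q is isomorphic to Sym(3), C_Q(X) = ⟨s⟩ for a Sylow 3-subgroup X of L, and s is not weakly closed in Q with respect to G (some conjugate of s other than s lies in Q). Then either G has an elementary abelian normal subgroup of order 8 with quotient isomorphic to PSL(3,2), or G is isomorphic to the alternating group of degree 8 or 9, or to the Mathieu group M₁₂. -/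
theorem result {G : Type*} [Group G] [Finite G]
    (s : G) (hs : orderOf s = 2) (L : Subgroup G) (hL : L = Subgroup.centralizer ({s} : Set G))
    (Q : Subgroup G) (hQ : Q = (Cfsg.pCore 2 L).map L.subtype)
    (hQex : Cfsg.IsExtraspecial 2 Q) (hQcard : Nat.card Q = 32)
    (e : L ⧸ Cfsg.pCore 2 L ≃* Equiv.Perm (Fin 3))
    (X : Sylow 3 L) (hCQX : Q ⊓ Subgroup.centralizer (((X : Subgroup L).map L.subtype : Subgroup G) : Set G) = Subgroup.zpowers s)
    (hnwc : ∃ g : G, g * s * g⁻¹ ∈ Q ∧ g * s * g⁻¹ ≠ s) :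
    (∃ (N : Subgroup G) (hN : N.Normal), IsMulCommutative N ∧ (∀ n ∈ N, n ^ 2 = 1) ∧ Nat.card N = 8 ∧
        Nonempty (G ⧸ N ≃* Matrix.ProjectiveSpecialLinearGroup (Fin 3) (ZMod 2))) ∨
    Nonempty (G ≃* alternatingGroup (Fin 8)) ∨ Nonempty (G ≃* alternatingGroup (Fin 9)) ∨ Cfsg.Spor.IsoM12 G := by
  have ss : s * s = 1 := by rw [← pow_two, ← hs, pow_orderOf_eq_one]
  have s1 : s ≠ 1 := fun e => by simp [e] at hs
  have mL : ∀ {g}, g ∈ L ↔ g * s = s * g := hL ▸ mem_centralizer_singleton_iff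
  have mQ : ∀ {g : L}, (g : G) ∈ Q ↔ g ∈ pCore 2 L := hQ ▸ mem_map_iff_mem L.subtype_injective
  have QL : Q ≤ L := hQ ▸ map_subtype_le _
  have sQ : s ∈ Q := (hCQX.ge (mem_zpowers s)).1
  have nQ : ∀ l, l * s = s * l → ∀ q ∈ Q, l * q * l⁻¹ ∈ Q := fun l hl q hq =>
    (mQ (g := ⟨l, mL.mpr hl⟩ * ⟨q, QL hq⟩ * ⟨l, mL.mpr hl⟩⁻¹)).mpr
      ((inferInstance : (pCore 2 L).Normal).conj_mem _ (mQ.mp hq) _)
  have cen : ∀ p : Q, p ∈ center Q → (p : G) = 1 ∨ (p : G) = s := fun p hp => by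
    have := mem_of_nodup (Q := center Q) (l := [1, ⟨s, sQ⟩]) (by simpa [Subtype.ext_iff] using s1.symm)
      (by simpa using mem_center_iff.mpr fun q => Subtype.ext (mL.mp (QL q.2))) hQex.2.le p hp
    simp only [List.mem_cons, List.not_mem_nil, or_false] at this
    exact this.imp (congrArg Subtype.val) (congrArg Subtype.val)
  have cL : Nat.card L = 192 := by
    rw [card_eq_card_quotient_mul_card_subgroup (pCore 2 L), Nat.card_congr e.toEquiv, ← card_subtype, ← hQ, hQcard,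
      Nat.card_perm, Nat.card_fin]
    rfl
  have cX : Nat.card (X : Subgroup L) = 3 := by
    rw [X.card_eq_multiplicity, cL, show 192 = 3 ^ 1 * 64 from rfl, Nat.factorization_mul_apply_of_coprime (by decide),
      Nat.factorization_eq_zero_of_not_dvd (n := 64) (by decide), Nat.prime_three.factorization_pow]
    simp
  have fr : ∀ x : L, x ^ 3 = 1 → x ≠ 1 → Fr s Q x := fun x x3 x1 => by
    refine ⟨ss, s1, sQ, fun q hq => mL.mp (QL hq), fun p hp q hq => ?_, fun p hp h => cen ⟨p, hp⟩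
      (mem_center_iff.mpr fun q => Subtype.ext (h q q.2).symm), hQcard, congrArg Subtype.val x3,
      mul_inv_eq_iff_eq_mul.mpr (mL.mp x.2), nQ x (mL.mp x.2), fun q hq h => ?_⟩
    · have := cen _ (hQex.1.2.2.le (commutator_mem_commutator (mem_top (⟨p, hp⟩⁻¹ : Q)) (mem_top (⟨q, hq⟩⁻¹ : Q))))
      simp only [commutatorElement_def, inv_inv, coe_mul, coe_inv] at this
      exact this.imp (fun e => by rw [← mul_one (q * p), ← e]; group) fun e => by rw [← e]; group
    · have h3 : orderOf x = 3 := orderOf_eq_prime x3 x1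
      obtain ⟨P, hP⟩ := (IsPGroup.of_card (p := 3) (n := 1) (by rw [Nat.card_zpowers, h3]; rfl) :
        IsPGroup 3 (zpowers x)).exists_le_sylow
      obtain ⟨g, rfl⟩ := MulAction.exists_smul_eq L X P
      have h4 : zpowers (g⁻¹ * x * g) = X := eq_of_le_of_card_ge (zpowers_le_of_mem (by
        simpa using (Sylow.coe_subgroup_smul (g := g) (P := X) ▸ mem_pointwise_smul_iff_inv_smul_mem).mp
          (hP (mem_zpowers x)))) (by
        rw [cX, Nat.card_zpowers, ← h3]
        exact (orderOf_injective (MulAut.conj g⁻¹).toMonoidHom (MulEquiv.injective _) x).symm.le.trans (by simp))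
      have h5 : (g : G)⁻¹ * q * g ∈ zpowers s := hCQX.le ⟨by simpa using nQ g⁻¹ (mL.mp (inv_mem g.2)) q hq, by
        rw [← h4, MonoidHom.map_zpowers]
        rintro _ ⟨k, rfl⟩
        exact ((show Commute _ _ from by simpa [commute_iff_eq] using comm_conj (g := (g : G)⁻¹) h).zpow_left k).eq⟩
      have h6 : (g : G) * s * (g : G)⁻¹ = s := mul_inv_eq_iff_eq_mul.mpr (mL.mp g.2)
      have := mem_of_nodup (Q := zpowers s) (l := [1, s]) (by simpa using s1.symm) (by simp)
        (by rw [Nat.card_zpowers, hs]; rfl) _ h5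
      simp only [List.mem_cons, List.not_mem_nil, or_false] at this
      exact this.imp (fun e => by_contra fun e1 => CIT.inv_conj_ne_one e1 e) fun e => by rw [← h6, ← e]; group
  obtain ⟨g, g1, g2⟩ := hnwc
  obtain ⟨x, x3⟩ := exists_prime_orderOf_dvd_card' (G := L) 3 (by rw [cL]; decide)
  have x1 : x ≠ 1 := fun e => by simp [e] at x3
  have x4 : x ^ 3 = 1 := x3 ▸ pow_orderOf_eq_one x
  obtain ⟨t, tt, ts, tQ⟩ := (fr x x4 x1).exists_out g1 g2
  lift t to L using mL.mpr ts
  have tt' : t * t = 1 := Subtype.ext tt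
  let π := e.toMonoidHom.comp (QuotientGroup.mk' _)
  have hπ : ∀ u : L, π u = 1 → (u : G) ∈ Q := fun u hu =>
    mQ.mpr ((QuotientGroup.eq_one_iff _).mp ((map_eq_one_iff e e.injective).mp hu))
  have y1 : (t * (x * t * x⁻¹)) ^ 64 ≠ 1 := fun e1 => (by decide +kernel : ∀ σ τ : Equiv.Perm (Fin 3), σ ^ 3 = 1 → σ ≠ 1 →
      τ * τ = 1 → τ ≠ 1 → (τ * (σ * τ * σ⁻¹)) ^ 64 ≠ 1) (π x) (π t) (by rw [← map_pow, x4, map_one])
    (fun e => ((fr x x4 x1).fix x (hπ x e) rfl).elim (fun e => x1 (Subtype.ext e)) fun e => by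
      rw [← orderOf_coe, e, hs] at x3; cases x3) (by rw [← map_mul, tt', map_one]) (fun e => tQ (hπ t e))
    (by simpa using congrArg π e1)
  refine (fr _ (by rw [← pow_mul, ← pow_card_eq_one', cL]) y1).typ tt (mul_inv_eq_iff_eq_mul.mpr ts) (nQ t ts) ?_
    (hL ▸ cL) g1 (isConj_iff.mpr ⟨g, rfl⟩) g2
  refine congrArg Subtype.val (show t * _ * t⁻¹ = _⁻¹ from ?_)
  have ti := inv_eq_of_mul_eq_one_right tt'
  rw [← conj_pow, ← inv_pow, mul_inv_rev, conj_inv, ti, ← mul_assoc, tt', one_mul]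

end Cfsg.Agent.S3344
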