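import Cfsg.Statements.S3345
import Cfsg.Agent.O8.End

set_option autoImplicit false
open Cfsg Subgroup Cfsg.Agent.O8 Cfsg.Agent.Local Cfsg.Agent.M12C

namespace Cfsg.Agent.S3345

/-- Let G be a finite group with O^2(G) = G and an involution t with centralizer C such that F*(C) is extraspecial of order 2^9, C/O₂(C) is isomorphic to Sym(3) × Sym(3) × Sym(3), and C_G(O₂(C)) ≤ O₂(C). Then either the image of t is central in G/O_{2'}(G), or G is isomorphic to Ω⁺(8,2), the commutator subgroup of the isometry group of the hyperbolic quadratic form in dimension 8 over the field with 2 elements. -/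
theorem result {G : Type*} [Group G] [Finite G]
    (hG : Cfsg.pResidual 2 G = ⊤) (t : G) (ht : orderOf t = 2)
    (C : Subgroup G) (hC : C = Subgroup.centralizer ({t} : Set G))
    (hF : Cfsg.IsExtraspecial 2 (Cfsg.generalizedFittingSubgroup C))
    (hFcard : Nat.card (Cfsg.generalizedFittingSubgroup C) = 2 ^ 9)
    (e : C ⧸ Cfsg.pCore 2 C ≃* Equiv.Perm (Fin 3) × Equiv.Perm (Fin 3) × Equiv.Perm (Fin 3))
    (hcc : Subgroup.centralizer (((Cfsg.pCore 2 C).map C.subtype : Subgroup G) : Set G) ≤ (Cfsg.pCore 2 C).map C.subtype) :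
    (∀ g : G, g * t * g⁻¹ * t⁻¹ ∈ Cfsg.oddCore G) ∨
      Nonempty (G ≃* Cfsg.Omega (ZMod 2) (Cfsg.quadFormPlus 4 (ZMod 2))) := by
  classical
  subst hC
  have tt : t * t = 1 := by rw [← pow_two, ← ht, pow_orderOf_eq_one]
  have t1 : t ≠ 1 := fun e => by simp [e] at ht
  by_cases hi : IsIsolated t
  · exact .inl (Block.zstar tt hi)
  have hL : layer (Ce t) = ⊥ := sSup_eq_bot.mpr fun K hK => by
    have h1 : IsPGroup 2 K := hF.1.1.of_injective (inclusion ((le_sSup hK).trans le_sup_left)) (inclusion_injective _)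
    have := h1.isNilpotent
    have := hK.2.1
    by_contra h
    have := (nontrivial_iff_ne_bot K).mpr h
    exact Group.IsPerfect.not_isSolvable K inferInstance
  have hE : generalizedFittingSubgroup (Ce t) = pCore 2 (Ce t) := by
    refine le_antisymm (le_pCore ?_ hF.1.1) ((pCore_le_fittingSubgroup 2).trans le_sup_right)
    rw [generalizedFittingSubgroup, hL, bot_sup_eq]
    infer_instance
  rw [hE] at hF hFcard
  set Q := (pCore 2 (Ce t)).map (Ce t).subtype with hQ
  have QL : Q ≤ Ce t := map_subtype_le _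
  have mQ : ∀ {g : Ce t}, (g : G) ∈ Q ↔ g ∈ pCore 2 (Ce t) := mem_map_iff_mem (Ce t).subtype_injective
  have tQ : t ∈ Q := hcc fun q hq => mC.mp (QL hq)
  let el : ∀ q ∈ Q, pCore 2 (Ce t) := fun q hq => ⟨⟨q, QL hq⟩, mQ.mp hq⟩
  have cen : ∀ p : pCore 2 (Ce t), p ∈ center _ → (p.1 : G) = 1 ∨ (p.1 : G) = t := fun p hp => by
    have := mem_of_nodup (Q := center _) (l := [1, el t tQ]) (by simpa [Subtype.ext_iff, el] using t1.symm)
      (by simpa using mem_center_iff.mpr fun q => Subtype.ext (Subtype.ext (mC.mp q.1.2))) hF.2.le p hp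
    simp only [List.mem_cons, List.not_mem_nil, or_false] at this
    exact this.imp (fun e => by rw [e]; rfl) fun e => by rw [e]
  have cen' : ∀ p ∈ Q, (∀ q ∈ Q, p * q = q * p) → p = 1 ∨ p = t := fun p hp h =>
    cen (el p hp) (mem_center_iff.mpr fun q => Subtype.ext (Subtype.ext (h _ (mQ.mpr q.2)).symm))
  have cm : ∀ p ∈ Q, ∀ q ∈ Q, p * q = q * p ∨ p * q = q * p * t := fun p hp q hq => by
    have := cen _ (hF.1.2.2.le (commutator_mem_commutator (mem_top (el p hp)⁻¹) (mem_top (el q hq)⁻¹)))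
    simp only [commutatorElement_def, inv_inv, coe_mul, coe_inv, el] at this
    exact this.imp (fun e => by rw [← mul_one (q * p), ← e]; group) fun e => by rw [← e]; group
  let π := e.toMonoidHom.comp (QuotientGroup.mk' _)
  let ψ : S3 × S3 × S3 → Fin 3 → S3 := fun x => ![x.1, x.2.1, x.2.2]
  have H : Hyp t Q fun x => if h : x ∈ Ce t then ψ (π ⟨x, h⟩) else 1 := by
    refine ⟨tt, t1, tQ, QL, cm, fun p hp => cen' _ (mul_mem hp hp) fun q hq => ?_, cen', ?_, fun x hx y hy => ?_,
      fun x hx => ?_, fun σ => ?_⟩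
    · rcases cm p hp q hq with e | e
      · rw [mul_assoc, e, ← mul_assoc, e, mul_assoc]
      · rw [mul_assoc, e, ← mul_assoc, ← mul_assoc, e, mul_assoc _ t, ← mC.mp (QL hp), mul_assoc, mul_assoc p t, tt,
          mul_one, mul_assoc]
    · rw [hQ, card_subtype, hFcard]; rfl
    · rw [dif_pos hx, dif_pos hy, dif_pos (mul_mem hx hy)]
      refine (congrArg ψ (map_mul π ⟨x, hx⟩ ⟨y, hy⟩)).trans (funext fun i => ?_)
      fin_cases i <;> rfl
    · rw [dif_pos hx, mQ (g := ⟨x, hx⟩), ← QuotientGroup.eq_one_iff, ← e.map_eq_one_iff]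
      exact ⟨fun h => Prod.ext (congrFun h 0) (Prod.ext (congrFun h 1) (congrFun h 2)), fun h =>
        (congrArg ψ h).trans (by decide)⟩
    · obtain ⟨x, hx⟩ := (e.surjective.comp (QuotientGroup.mk'_surjective _)) (σ 0, σ 1, σ 2)
      refine ⟨x, x.2, (dif_pos x.2).trans ((congrArg ψ hx).trans (funext fun i => ?_))⟩
      fin_cases i <;> rfl
  obtain ⟨g, hg⟩ := not_forall.mp hi
  obtain ⟨h1, h2⟩ := Classical.not_imp.mp hg
  obtain ⟨w, hw, h3, h4⟩ := H.not_wc (isConj_iff.mpr ⟨g, rfl⟩) h1.symm h2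
  obtain ⟨w, Q', E, φ', e, P⟩ := H.exists_fr hw h3 h4
  obtain ⟨gs, P⟩ := P.out
  exact .inr P.iso

end Cfsg.Agent.S3345
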