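import Cfsg.Statements.S3348
import Cfsg.Agent.Am33.Main
import Cfsg.Agent.M12C.Loc2

set_option autoImplicit false
open Cfsg Subgroup Cfsg.Agent.Am33 Cfsg.Agent.Local Cfsg.Agent.Mat

namespace Cfsg.Agent.S3348

attribute [local irreducible] cmul cinv ms9

theorem side {G : Type*} [Group G] [Finite G] {A S : Subgroup G} (e : A ⧸ pCore 3 A ≃* GL (Fin 2) (ZMod 3))
    (hO : IsMulCommutative (pCore 3 A) ∧ (∀ x ∈ pCore 3 A, x ^ 3 = 1) ∧ Nat.card (pCore 3 A) = 9 ∧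
      centralizer ((pCore 3 A : Subgroup A) : Set A) = pCore 3 A) (hS : IsSylowIn 3 S A) :
    Nat.card A = 432 ∧ ∃ V : Subgroup G, V ≤ S ∧ A ≤ normalizer (V : Set G) ∧ Nat.card V = 9 ∧
      (∀ z ∈ S, (∀ x ∈ S, x * z = z * x) → z ∈ V) ∧
      ∀ z ∈ V, z ≠ 1 → ∃ ψ : cl ms9 →* G, Function.Injective ψ ∧ ψ.range = A ∧ ψ z0 = z := by
  have hA : Nat.card A = 432 := by
    rw [card_eq_card_quotient_mul_card_subgroup (pCore 3 A), Nat.card_congr e.toEquiv, hO.2.2.1,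
      Matrix.card_GL_field]
    simp
  have h1 : A ≤ normalizer (((pCore 3 A).map A.subtype : Subgroup G) : Set G) := fun y hy =>
    le_normalizer_map _ ⟨⟨y, hy⟩, le_normalizer_of_normal' ⊤ _ (mem_top _), rfl⟩
  have h2 : (pCore 3 A).map A.subtype ≤ S :=
    hS.le_of_le_normalizer ((isPGroup_pCore 3).map _) (map_subtype_le _) (hS.le.trans h1)
  refine ⟨hA, _, h2, h1, (card_subtype _ _).trans hO.2.2.1, fun z hz hc => ⟨⟨z, hS.le hz⟩, ?_, rfl⟩, ?_⟩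
  · exact hO.2.2.2.le fun x hx => Subtype.ext (hc _ (h2 ⟨x, hx, rfl⟩))
  · rintro _ ⟨z, hz, rfl⟩ z1
    obtain ⟨ψ, hψ⟩ := exists_model hA hO.1 hO.2.1 hO.2.2.1 hO.2.2.2 hz fun e => z1 (congrArg Subtype.val e)
    exact ⟨A.subtype.comp ψ.toMonoidHom, A.subtype_injective.comp ψ.injective, by
      rw [MonoidHom.range_comp, MonoidHom.range_eq_top.mpr ψ.surjective, ← MonoidHom.range_eq_map, range_subtype],
      congrArg Subtype.val hψ⟩

/-- Let G be a finite group generated by isomorphic subgroups A and B such that C = A ∩ B contains a Sylow 3-subgroup of each of A and B and no non-trivial subgroup of C is normalized by both A and B. Suppose A/O₃(A) and B/O₃(B) are isomorphic to GL(2,3), that O₃(A) and O₃(B) are elementary abelian of order 9 and self-centralizing in A and B respectively (natural modules), and that for a Sylow 3-subgroup S of C the normalizer N_G(Z(S)) lies in A ∩ B.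 Then G is isomorphic to the Mathieu group M₁₂ or to PSL(3,3). -/
theorem result {G : Type*} [Group G] [Finite G]
    (A B : Subgroup G) (eAB : Nonempty (A ≃* B)) (hgen : A ⊔ B = ⊤)
    (hSylA : ¬ 3 ∣ ((A ⊓ B).subgroupOf A).index) (hSylB : ¬ 3 ∣ ((A ⊓ B).subgroupOf B).index)
    (hcore : ∀ N : Subgroup G, N ≤ A ⊓ B → (∀ a ∈ A, N.map (MulAut.conj a).toMonoidHom = N) →
      (∀ b ∈ B, N.map (MulAut.conj b).toMonoidHom = N) → N = ⊥)
    (eA : A ⧸ Cfsg.pCore 3 A ≃* GL (Fin 2) (ZMod 3)) (eB : B ⧸ Cfsg.pCore 3 B ≃* GL (Fin 2) (ZMod 3))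
    (hOA : IsMulCommutative (Cfsg.pCore 3 A) ∧ (∀ x ∈ Cfsg.pCore 3 A, x ^ 3 = 1) ∧ Nat.card (Cfsg.pCore 3 A) = 9 ∧
      Subgroup.centralizer ((Cfsg.pCore 3 A : Subgroup A) : Set A) = Cfsg.pCore 3 A)
    (hOB : IsMulCommutative (Cfsg.pCore 3 B) ∧ (∀ x ∈ Cfsg.pCore 3 B, x ^ 3 = 1) ∧ Nat.card (Cfsg.pCore 3 B) = 9 ∧
      Subgroup.centralizer ((Cfsg.pCore 3 B : Subgroup B) : Set B) = Cfsg.pCore 3 B)
    (S : Sylow 3 ↥(A ⊓ B)) (Z : Subgroup G)
    (hZ : Z = ((S : Subgroup ↥(A ⊓ B)) ⊓ Subgroup.centralizer ((S : Subgroup ↥(A ⊓ B)) : Set ↥(A ⊓ B))).map (A ⊓ B).subtype)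
    (hNZ : Subgroup.normalizer (Z : Set G) ≤ A ⊓ B) :
    Cfsg.Spor.IsoM12 G ∨ Nonempty (G ≃* Matrix.ProjectiveSpecialLinearGroup (Fin 3) (ZMod 3)) := by
  have hS := isSylowIn_map_subtype S
  have hS' : ∀ X, A ⊓ B ≤ X → ¬ 3 ∣ ((A ⊓ B).subgroupOf X).index →
      IsSylowIn 3 ((S : Subgroup ↥(A ⊓ B)).map (A ⊓ B).subtype) X := fun X h1 h2 =>
    ⟨hS.le.trans h1, hS.isPGroup, by
      rw [← relIndex_mul_relIndex _ _ _ hS.le h1, Nat.prime_three.dvd_mul]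
      exact fun e => e.elim hS.not_dvd h2⟩
  obtain ⟨cA, V, V1, V2, V3, V4, V5⟩ := side eA hOA (hS' A inf_le_left hSylA)
  obtain ⟨-, W, W1, W2, W3, W4, W5⟩ := side eB hOB (hS' B inf_le_right hSylB)
  have core : ¬ B ≤ normalizer (V : Set G) := fun e => by
    rw [hcore V (V1.trans hS.le) (fun g hg => mem_normalizer_iff_conj_smul_eq.mp (V2 hg))
      fun g hg => mem_normalizer_iff_conj_smul_eq.mp (e hg), card_bot] at V3
    omega
  have hZ1 : Z ≤ V ⊓ W := by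
    rw [hZ]
    rintro _ ⟨z, hz, rfl⟩
    have : ∀ x ∈ (S : Subgroup ↥(A ⊓ B)).map (A ⊓ B).subtype, x * z = z * x := by
      rintro _ ⟨x, hx, rfl⟩
      exact congrArg Subtype.val (hz.2 x hx)
    exact ⟨V4 _ ⟨z, hz.1, rfl⟩ this, W4 _ ⟨z, hz.1, rfl⟩ this⟩
  obtain ⟨z, hz, z1⟩ : ∃ z ∈ Z, z ≠ 1 := by
    have : Nontrivial S := Finite.one_lt_card_iff_nontrivial.mp (by
      have := card_le_of_le V1
      rw [card_subtype, V3] at this
      exact lt_of_lt_of_le (by decide) this)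
    have := S.isPGroup'.center_nontrivial
    obtain ⟨⟨c, hc⟩, c1⟩ := exists_ne (1 : center S)
    exact ⟨c.1, hZ ▸ ⟨c.1, ⟨c.2, fun x hx => congrArg Subtype.val (mem_center_iff.mp hc ⟨x, hx⟩)⟩, rfl⟩,
      fun e => c1 (Subtype.ext (Subtype.ext (Subtype.ext e)))⟩
  obtain ⟨φ, φ1, φ2, φ3⟩ := V5 z (hZ1 hz).1 z1
  obtain ⟨ψ, ψ1, ψ2, ψ3⟩ := W5 z (hZ1 hz).2 z1
  obtain ⟨rc, ⟨na, nb, ns, nt⟩, z3, ap, ⟨a1, a2, a3⟩, s1, b1⟩ := facts0
  have ho : orderOf z = 3 := orderOf_eq_prime (by rw [← φ3, ← map_pow, z3, map_one]) z1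
  have hVW : zpowers z = V ⊓ W := eq_of_le_of_card_ge (zpowers_le.mpr (hZ1 hz)) (by
    have h1 := card_dvd_of_le (inf_le_left : V ⊓ W ≤ V)
    have h2 : Nat.card ↥(V ⊓ W) ≠ 9 := fun e => core (by
      rwa [← eq_of_le_of_card_ge (inf_le_left : V ⊓ W ≤ V) (by omega),
        eq_of_le_of_card_ge (inf_le_right : V ⊓ W ≤ W) (by omega)])
    rw [V3] at h1
    rw [Nat.card_zpowers, ho]
    have := Nat.le_of_dvd (by decide) h1
    generalize Nat.card ↥(V ⊓ W) = n at *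
    interval_cases n <;> omega)
  have hN : ∀ (f : cl ms9 →* G), f z0 = z → ∀ u, NZ z0 u → f u ∈ A ⊓ B := fun f hf u hu => hNZ <| by
    rw [← le_antisymm (zpowers_le.mpr hz) (hVW ▸ hZ1)]
    refine mem_normalizer_of_conj_mem ?_
    rintro _ ⟨k, rfl⟩
    rw [← conj_zpow]
    refine zpow_mem ?_ k
    rcases hu with e | e <;> rw [← hf, ← map_mul, e, map_mul, mul_inv_cancel_right]
    exacts [mem_zpowers _, map_mul f _ _ ▸ mul_mem (mem_zpowers _) (mem_zpowers _)]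
  obtain ⟨a, ha⟩ := ψ2.ge (hN φ φ3 _ na).2
  obtain ⟨b, hb⟩ := ψ2.ge (hN φ φ3 _ nb).2
  obtain ⟨s, hs⟩ := ψ2.ge (hN φ φ3 _ ns).2
  obtain ⟨t, ht⟩ := ψ2.ge (hN φ φ3 _ nt).2
  have rc1 : RC (φ z0) (φ a0) (φ b0) (φ s0) (φ t0) := by
    simpa only [RC, ← map_mul, φ1.eq_iff, map_eq_one_iff φ φ1] using rc
  have rc2 : RC z0 a b s t := by
    rw [φ3, ← ψ3, ← ha, ← hb, ← hs, ← ht] at rc1
    simpa only [RC, ← map_mul, ψ1.eq_iff, map_eq_one_iff ψ ψ1] using rc1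
  obtain ⟨q, rq, nq⟩ := (swap0 a rc2.1).resolve_left (fun ⟨g, hg⟩ => by
    have h1 : φ a0 ∈ zpowers z := hVW.ge ⟨by
      rw [ap, map_mul, map_mul, map_inv, map_inv, φ3]
      exact inv_conj_mem_of_mem_normalizer (V2 (φ2.le ⟨p0, rfl⟩)) (inv_mem (hZ1 hz).1), by
      rw [← ha, ← hg, map_mul, map_mul, map_inv, ψ3]
      exact conj_mem_of_mem_normalizer (W2 (ψ2.le ⟨g, rfl⟩)) (hZ1 hz).2⟩
    rcases Char.mem_zpowers_three ho h1 with e | e | e
    exacts [a1 (φ1 (e.trans (map_one φ).symm)), a2 (φ1 (e.trans φ3.symm)),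
      a3 (φ1 (by rw [e, map_inv, φ3]))]) b rc2.2.1 s rc2.2.2.1 t rc2.2.2.2
  have hl : lA (φ z0) (φ a0) (φ b0) (φ s0) (φ t0) (φ p0) = (lA z0 a0 b0 s0 t0 p0).map φ := by simp [lA]
  refine Am.result (p := φ p0) (q := ψ q) ⟨fun r hr => by rw [hl, ← map_ev, rels0 r hr, map_one], rc1, ?_,
    fun K h1 h2 => ?_, fun g g1 g2 => ?_, (map_ne_one_iff φ φ1).mpr s1, (map_ne_one_iff φ φ1).mpr b1,
    cA ▸ card_subgroup_dvd_card A, not_le.mp fun e => core (le_top.trans ((eq_top_of_le_card A (by omega)).ge.trans V2))⟩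
  · rw [φ3, ← ψ3, ← ha, ← hb, ← hs, ← ht]
    simpa only [RQ, ← map_mul, ψ1.eq_iff, map_eq_one_iff ψ ψ1] using rq
  · have h3 : A ≤ K := by
      rw [← φ2]
      rintro _ ⟨u, rfl⟩
      refine cl_le (fun x hx => ?_) (M12C.mem_cl_low φ [] u)
      obtain ⟨i, hi, rfl⟩ := List.mem_map.mp (List.append_nil _ ▸ hx)
      obtain ⟨w, -, hw⟩ := gen0 i ((by decide +kernel : ms9.length = 8) ▸ List.mem_range.mp hi)
      rw [hw, map_ev, ← hl]
      exact ev_mem h1 w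
    have h4 : ∀ u, NZ z0 u → u ∈ K.comap ψ := fun u hu => h3 (hN ψ ψ3 u hu).1
    have h5 := h4 _ nb
    have h6 : q ∈ K.comap ψ := h2
    have h7 : p0 ∈ K.comap ψ := by
      rcases bruhat0 q with e | e | e | e
      exacts [absurd e nq, (mul_mem_cancel_right h6).mp (h4 _ e),
        (mul_mem_cancel_right h5).mp ((mul_mem_cancel_right h6).mp (h4 _ e)),
        (mul_mem_cancel_right (inv_mem h5)).mp ((mul_mem_cancel_right h6).mp (h4 _ e))]
    rw [eq_top_iff, ← hgen, sup_le_iff, ← ψ2]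
    refine ⟨h3, ?_⟩
    rintro _ ⟨u, rfl⟩
    rcases bruhat0 u with e | e | e | e
    exacts [h4 _ e, (mul_mem_cancel_left h7).mp (h4 _ e), (mul_mem_cancel_left (mul_mem h7 h5)).mp (h4 _ e),
      (mul_mem_cancel_left (mul_mem h7 (inv_mem h5))).mp (h4 _ e)]
  · obtain ⟨u, rfl⟩ := φ2.ge (hNZ (by
      rw [← le_antisymm (zpowers_le.mpr hz) (hVW ▸ hZ1), ← φ3]
      refine centralizer_le_normalizer _ ?_
      rintro _ ⟨k, rfl⟩
      exact (Commute.zpow_left g1.symm k).eq) : g ∈ A ⊓ B).1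
    simp only [← map_mul, φ1.eq_iff] at g1 g2
    refine (cent0 u g1 g2).imp (fun ⟨i, _, e⟩ => ?_) fun ⟨i, _, e⟩ => ?_
    · rw [← e, map_pow]; exact pow_mem (mem_zpowers _) i
    · rw [← map_mul, ← map_mul, ← e, map_pow]; exact pow_mem (mem_zpowers _) i

end Cfsg.Agent.S3348
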