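import Cfsg.Statements.S3374
import Cfsg.Agent.Spec.Aff
import Cfsg.Agent.Char.Frobenius

set_option autoImplicit false
open Cfsg

namespace Cfsg.Agent.S3374

open Cfsg.Agent.Spec

/-- table of a representation of `SL(2,5)` in `SL(2,11)` -/
def tab : ℕ := 0x2885000000000000000000008a2400000000000000000000a76100000000000000000000767362a9000000000000000000000000711500000000000000000000000064340000259100000000000000000000000089530000a34900000000000000000000000000003aa80000000017820000000000000000000000000000462600000000526700000000987a000000000000000000000000000000003337000000000000119a000000000000445800000000000055420000000000009916000000000000000070080000000000000000600200000000000000002006000000000000000080070000000000000000a00a0000000000000000267500000000000000000000000000007a230000000082a40000000000000000000000000000676900000000a88100000000000000000000611400000000000000000000a959243100000000000000000000734500000000000000000000859300000000000058770000000000001622000000000000000000000000000000009aaa00000000000042660000000000003788000000000000000000000000919600004918000000000000000000000000345700005332000000000000000000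000000154a0000000000000000069000000000000000000a100000000000000000025000000000000000000730000000000000000008400000000000000000000068890000876400000000000000000000000072a30000000000000000000000002a250000a6710000000000007955000000000000000000000000000000002111000000000000a5990000000000006344000000000000843300000000000000000000487600000000000000000000978a0000000000000000000012625aa7000000000000000000003628000000000000000000000000000054520000000039170000000041980000000000000000000000000000954600000000133a0000000000000000048000000000000000000960000000000000000001a000000000000000000520000000000000000003700000000000000000000066790000000000007763000000000000aa2100000000000000000000000000000000888400000000000022a50000000069540000000000000000000000000000759500000000a4390000000081130000000000000000000000000000234100003268000000000000000000000000962a000000000000000000000000578700004aa60000000000000000000000001872000000000000000000004548145a0000000000000000000031970000000000000000000093360000000000000000000059120000000000000000300400000000000000009005000000000000000050090000000000000000400300000000000000001001000000000000000000000000000000000000000000000000000000000000000078836a2927658674a2a100000000000000000000000000000000000000006594a11929517435834300000000000000000000000000000000000000000000000000000000000000000000000000000000000000000000000000004786926a1aa25627387800000000000000000000000000000000000000003547945651924338191a000000000000000000000000000000000000000000000000000000000000000000000000000000000000000000000000000000000000000000000000000000000000000000000000000000000000000000000000000000000000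

/-- entry `k` of the image of the matrix with entries `a b c d` -/
def ent (a b c d k : ℕ) : ℕ := tab / 16 ^ (4 * (a + 5 * b + 25 * c + 125 * d) + k) % 16

def chkMul : Bool :=
  (List.range 5).all fun a => (List.range 5).all fun b => (List.range 5).all fun c =>
  (List.range 5).all fun d => (a * d + 4 * (b * c)) % 5 != 1 ||
  (List.range 5).all fun a' => (List.range 5).all fun b' => (List.range 5).all fun c' =>
  (List.range 5).all fun d' => (a' * d' + 4 * (b' * c')) % 5 != 1 ||
  (List.range 2).all fun i => (List.range 2).all fun j =>
    ent ((a * a' + b * c') % 5) ((a * b' + b * d') % 5) ((c * a' + d * c') % 5)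
      ((c * b' + d * d') % 5) (2 * i + j) % 11 ==
    (ent a b c d (2 * i) * ent a' b' c' d' j + ent a b c d (2 * i + 1) * ent a' b' c' d' (2 + j)) % 11

theorem chkMul_true : chkMul = true := by decide +kernel

def chkFpf : Bool :=
  (List.range 5).all fun a => (List.range 5).all fun b => (List.range 5).all fun c =>
  (List.range 5).all fun d => (a * d + 4 * (b * c)) % 5 != 1 || (a == 1 && b == 0 && c == 0 && d == 1) ||
    ((ent a b c d 0 + 10) * (ent a b c d 3 + 10) + 10 * (ent a b c d 1 * ent a b c d 2)) % 11 != 0

theorem chkFpf_true : chkFpf = true := by decide +kernel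

abbrev SL25 := Matrix.SpecialLinearGroup (Fin 2) (ZMod 5)

def rep (g : SL25) : Matrix (Fin 2) (Fin 2) (ZMod 11) := fun i j =>
  (ent (g 0 0).val (g 0 1).val (g 1 0).val (g 1 1).val (2 * i + j) : ℕ)

theorem det_val (g : SL25) :
    ((g 0 0).val * (g 1 1).val + 4 * ((g 0 1).val * (g 1 0).val)) % 5 = 1 := by
  have h := g.2
  rw [Matrix.det_fin_two] at h
  have key : ∀ a b c d : ZMod 5, a * d - b * c = 1 →
      (a.val * d.val + 4 * (b.val * c.val)) % 5 = 1 := by decide +kernel
  exact key _ _ _ _ h

theorem val_mul_add (a b c d : ZMod 5) :
    (a * b + c * d).val = (a.val * b.val + c.val * d.val) % 5 := by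
  rw [ZMod.val_add, ZMod.val_mul, ZMod.val_mul, ← Nat.add_mod]

theorem rep_mul (g h : SL25) : rep (g * h) = rep g * rep h := by
  have key := chkMul_true
  simp only [chkMul, List.all_eq_true, List.mem_range, Bool.or_eq_true, bne_iff_ne, ne_eq,
    beq_iff_eq] at key
  ext i j
  have k1 := (key _ (ZMod.val_lt (g 0 0)) _ (ZMod.val_lt (g 0 1)) _ (ZMod.val_lt (g 1 0)) _
    (ZMod.val_lt (g 1 1))).resolve_left (fun h => h (det_val g))
  have k2 := (k1 _ (ZMod.val_lt (h 0 0)) _ (ZMod.val_lt (h 0 1)) _ (ZMod.val_lt (h 1 0)) _
    (ZMod.val_lt (h 1 1))).resolve_left (fun h' => h' (det_val h)) i i.2 j j.2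
  have k3 := (ZMod.natCast_eq_natCast_iff' _ _ 11).2 k2
  simp only [rep, Matrix.mul_apply, Fin.sum_univ_two, Matrix.SpecialLinearGroup.coe_mul,
    val_mul_add]
  rw [k3]
  push_cast
  simp

theorem rep_one : rep 1 = 1 := by
  ext i j
  fin_cases i <;> fin_cases j <;> decide +kernel

def repHom : SL25 →* Matrix (Fin 2) (Fin 2) (ZMod 11) where
  toFun := rep
  map_one' := rep_one
  map_mul' := rep_mul

theorem rep_det (g : SL25) (hg : g ≠ 1) : (rep g - 1).det ≠ 0 := by
  have key := chkFpf_true
  simp only [chkFpf, List.all_eq_true, List.mem_range, Bool.or_eq_true, bne_iff_ne, ne_eq,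
    beq_iff_eq, Bool.and_eq_true] at key
  rcases key _ (ZMod.val_lt (g 0 0)) _ (ZMod.val_lt (g 0 1)) _ (ZMod.val_lt (g 1 0)) _
    (ZMod.val_lt (g 1 1)) with (h | h) | h
  · exact absurd (det_val g) h
  · exfalso
    apply hg
    obtain ⟨⟨⟨h1, h2⟩, h3⟩, h4⟩ := h
    have e1 : ∀ x : ZMod 5, x.val = 1 → x = 1 := by decide
    have e0 : ∀ x : ZMod 5, x.val = 0 → x = 0 := by decide
    ext i j
    fin_cases i <;> fin_cases j
    · simpa using e1 _ h1
    · simpa using e0 _ h2
    · simpa using e0 _ h3
    · simpa using e1 _ h4
  · intro hd
    apply h
    rw [← Nat.dvd_iff_mod_eq_zero, ← ZMod.natCast_eq_zero_iff]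
    rw [Matrix.det_fin_two] at hd
    simp only [rep, Matrix.sub_apply] at hd
    push_cast
    have e : (10 : ZMod 11) = -1 := by decide
    rw [e]
    simp at hd
    linear_combination hd

/-- the natural module -/
def V := Fin 2 → ZMod 11

instance instV1 : AddCommGroup V := inferInstanceAs (AddCommGroup (Fin 2 → ZMod 11))
instance instV2 : Finite V := inferInstanceAs (Finite (Fin 2 → ZMod 11))
instance instV3 : Nontrivial V :=
  ⟨⟨fun _ => 0, fun _ => 1, fun h => absurd (congrFun h 0) (by decide)⟩⟩

instance instV4 : DistribMulAction SL25 V where
  smul g v := (rep g).mulVec v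
  one_smul v := by
    change (rep 1).mulVec v = v
    rw [rep_one]
    exact Matrix.one_mulVec _
  mul_smul g h v := by
    change (rep (g * h)).mulVec v = (rep g).mulVec ((rep h).mulVec v)
    rw [rep_mul]
    exact (Matrix.mulVec_mulVec _ _ _).symm
  smul_zero g := Matrix.mulVec_zero _
  smul_add g v w := Matrix.mulVec_add _ _ _

theorem fpf (g : SL25) (hg : g ≠ 1) (v : V) (hv : g • v = v) : v = 0 := by
  have : Fact (Nat.Prime 11) := ⟨by norm_num⟩
  have h1 : (rep g).mulVec v = v := hv
  have h2 : ∀ w : Fin 2 → ZMod 11, (rep g).mulVec w = w → w = 0 := by
    intro w hw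
    have h2 : (rep g - 1).mulVec w = 0 := by
      rw [Matrix.sub_mulVec, Matrix.one_mulVec, hw, sub_self]
    exact Matrix.eq_zero_of_mulVec_eq_zero (rep_det g hg) h2
  exact h2 v h1


/-- SL(2,5) occurs as a Frobenius complement: there is a finite group L with a subgroup H isomorphic to SL(2,5) which is a non-trivial proper subgroup meeting each conjugate gHg⁻¹ with g outside H trivially. -/
theorem result :
    ∃ (L : Type) (_ : Group L) (_ : Finite L) (H : Subgroup L),
      Cfsg.IsFrobeniusComplement H ∧ Nonempty (H ≃* Matrix.SpecialLinearGroup (Fin 2) (ZMod 5)) := by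
  refine ⟨Aff SL25 V, inferInstance, inferInstance,
    (SemidirectProduct.inr : SL25 →* Aff SL25 V).range, ?_,
    ⟨(MonoidHom.ofInjective SemidirectProduct.inr_injective).symm⟩⟩
  refine (Cfsg.Agent.Char.isFrobeniusComplement_of_fpf (K := affKer SL25 V) ?_ ?_
    affKer_ne_bot ?_).1
  · refine Subgroup.isComplement'_of_disjoint_and_mul_eq_univ ?_ ?_
    · rw [Subgroup.disjoint_def]
      rintro x hx ⟨g, rfl⟩
      have : g = 1 := hx
      rw [this, map_one]
    · rw [Set.eq_univ_iff_forall]
      intro x
      obtain ⟨v, h, rfl⟩ := affMk_surj x
      refine ⟨affMk v 1, mem_affKer.2 rfl, affMk 0 h, ⟨h, rfl⟩, ?_⟩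
      simp only [affMk_mul, smul_zero, add_zero, one_mul]
  · intro h
    have h1 : (SemidirectProduct.inr (-1 : SL25) : Aff SL25 V) = 1 := by
      rw [← Subgroup.mem_bot, ← h]; exact ⟨_, rfl⟩
    have h2 : (-1 : SL25) = 1 :=
      SemidirectProduct.inr_injective (h1.trans (map_one _).symm)
    have h3 := congrArg (fun g : SL25 => g 0 0) h2
    revert h3
    simp
    decide
  · rintro _ ⟨g, rfl⟩ hg k hk hc
    obtain ⟨v, h, rfl⟩ := affMk_surj k
    have h1 : h = 1 := mem_affKer.1 hk
    subst h1
    have hg1 : g ≠ 1 := fun e => hg (by rw [e, map_one])
    have e : (SemidirectProduct.inr g : Aff SL25 V) = affMk 0 g := rfl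
    rw [e, commute_iff_eq, affMk_mul, affMk_mul, affMk_inj] at hc
    have : g • v = v := by simpa using hc.1
    rw [fpf g hg1 v this, affMk_zero_one]

end Cfsg.Agent.S3374
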