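import Cfsg.Statements.S3501
import Cfsg.Agent.Char.PermTools
import Cfsg.Agent.Local.Derange
import Cfsg.Agent.Perm2.Socle

set_option autoImplicit false
open Cfsg

namespace Cfsg.Agent.S3501

open MulAction

theorem two_trans_of_stabilizer {G Ω : Type*} [Group G] [MulAction G Ω] [IsPretransitive G Ω]
    (a : Ω) (h : ∀ b c : Ω, b ≠ a → c ≠ a → ∃ g : G, g • a = a ∧ g • b = c) :
    IsMultiplyPretransitive G Ω 2 := by
  rw [is_two_pretransitive_iff]
  intro b c b' c' hbc hbc'
  obtain ⟨g, hg⟩ := exists_smul_eq G b a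
  obtain ⟨g', hg'⟩ := exists_smul_eq G b' a
  have hc : g • c ≠ a := by rw [← hg]; exact fun h => hbc (MulAction.injective g h).symm
  have hc' : g' • c' ≠ a := by rw [← hg']; exact fun h => hbc' (MulAction.injective g' h).symm
  obtain ⟨x, hxa, hx⟩ := h _ _ hc hc'
  refine ⟨g'⁻¹ * x * g, ?_, ?_⟩
  · rw [mul_smul, mul_smul, hg, hxa, ← hg', inv_smul_smul]
  · rw [mul_smul, mul_smul, hx, inv_smul_smul]

theorem exists_not_conj_mem {G : Type*} [Group G] [Finite G] (R : Subgroup G) (hR : R ≠ ⊤) :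
    ∃ t : G, ∀ u : G, u⁻¹ * t * u ∉ R := by
  by_contra hh
  push Not at hh
  obtain ⟨ht, -⟩ := Local.transitive_and_unique_fixed_of_derangements_mem (G := G) (X := G ⧸ R) ⊥
    (fun g _ => by
      obtain ⟨u, hu⟩ := hh g
      refine ⟨(u : G ⧸ R), ?_⟩
      rw [MulAction.Quotient.smul_coe, eq_comm, QuotientGroup.eq]
      simpa [mul_assoc] using hu)
  apply hR
  rw [eq_top_iff]
  intro g _
  obtain ⟨x, hx, hxe⟩ := Char.exists_mem_smul_eq ht ((1 : G) : G ⧸ R) (g : G ⧸ R)
  rw [Subgroup.mem_bot] at hx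
  rw [hx, one_smul, QuotientGroup.eq] at hxe
  simpa using hxe

theorem forward {G : Type*} [Group G] [Finite G] {Ω : Type*} [Finite Ω] [Nontrivial Ω]
    [MulAction G Ω] [FaithfulSMul G Ω] (hprim : IsPreprimitive G Ω)
    (hnas : ¬ ∃ T : Subgroup G, T.Normal ∧ IsSimpleGroup T ∧ ¬ IsMulCommutative T ∧
      Subgroup.centralizer (T : Set G) = ⊥)
    (huniq : ∀ x y : G, (∀ ω : Ω, x • ω ≠ ω) → (∀ ω : Ω, y • ω ≠ ω) → ∃ g : G, g * x * g⁻¹ = y) :
    IsMultiplyPretransitive G Ω 2 ∧
      ∀ g : G, g ≠ 1 → ∀ a b : Ω, a ≠ b → g • a = a → g • b ≠ b := by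
  obtain ⟨a, b, hab⟩ := exists_pair_ne Ω
  have htr := hprim.toIsPretransitive
  have htop : (⊤ : Subgroup G) ≠ ⊥ := by
    obtain ⟨g, hg⟩ := exists_smul_eq G a b
    intro h
    have : g ∈ (⊥ : Subgroup G) := by rw [← h]; trivial
    rw [Subgroup.mem_bot] at this
    rw [this, one_smul] at hg
    exact hab hg
  obtain ⟨V, hV, -⟩ := Perm2.exists_isMinNormal_le (inferInstance : (⊤ : Subgroup G).Normal) htop
  have hVn := hV.1
  have hVt := Char.normal_isPretransitive hprim V hV.2.1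
  by_cases hr : ∀ c : Ω, stabilizer V c = ⊥
  · have hder : ∀ x ∈ V, x ≠ 1 → ∀ ω : Ω, x • ω ≠ ω := fun x hx hx1 ω h =>
      hx1 (Char.eq_one_of_smul_eq_of_regular hr hx ω h)
    obtain ⟨n, hn, hna⟩ := Char.exists_mem_smul_eq hVt a b
    have hn1 : n ≠ 1 := by rintro rfl; exact hab (by simpa using hna)
    obtain ⟨-, hu⟩ := Local.transitive_and_unique_fixed_of_derangements_mem (X := Ω) V
      (fun g hg => by
        by_contra hh
        push Not at hh
        obtain ⟨x, rfl⟩ := huniq n g (hder n hn hn1) hh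
        exact hg (hVn.conj_mem n hn x))
    obtain ⟨p, -, -, -, hc⟩ := Char.elementary_of_conj hV.2.1 (fun x hx y hy hx1 hy1 =>
      huniq x y (hder x hx hx1) (hder y hy hy1))
    constructor
    · apply two_trans_of_stabilizer a
      intro c d hc' hd
      obtain ⟨x, hx, rfl⟩ := Char.exists_mem_smul_eq hVt a c
      obtain ⟨y, hy, rfl⟩ := Char.exists_mem_smul_eq hVt a d
      obtain ⟨g, rfl⟩ := huniq x y (hder x hx (by rintro rfl; simp at hc'))
        (hder y hy (by rintro rfl; simp at hd))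
      obtain ⟨v, hv, hva⟩ := Char.exists_mem_smul_eq hVt a (g • a)
      have h1 : (v⁻¹ * g) • a = a := by rw [mul_smul, ← hva, inv_smul_smul]
      refine ⟨v⁻¹ * g, h1, ?_⟩
      have h2 : g⁻¹ • v • a = a := by rw [hva, inv_smul_smul]
      have h3 := hc _ hy v hv
      calc (v⁻¹ * g) • x • a = (v⁻¹ * g) • x • g⁻¹ • v • a := by rw [h2]
        _ = (v⁻¹ * (g * x * g⁻¹ * v)) • a := by simp only [mul_smul]
        _ = (g * x * g⁻¹) • a := by rw [h3]; simp
    · intro g hg c d hcd hc' hd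
      by_cases hgV : g ∈ V
      · exact hder g hgV hg c hc'
      · exact hcd (hu g hgV c d hc' hd)
  exfalso
  have hsemi : ∀ N : Subgroup G, IsPretransitive N Ω → (∀ x ∈ V, ∀ n ∈ N, x * n = n * x) →
      False := by
    intro N hN hc
    apply hr
    intro c
    apply Char.stabilizer_eq_bot_of
    intro x hx hxc
    exact Char.eq_one_of_commute_transitive hN (hc x hx) hxc
  rcases hV.structure with ⟨p, -, hc, -⟩ | ⟨T, hT, hTV⟩
  · exact hsemi V hVt hc
  have hC : Subgroup.centralizer (V : Set G) = ⊥ := by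
    by_contra hC
    exact hsemi _ (Char.normal_isPretransitive hprim _ hC) (fun x hx n hn => hn x hx)
  by_cases hTe : T = V
  · subst hTe
    exact hnas ⟨T, hVn, hT.1, hT.2, hC⟩
  obtain ⟨g, hg⟩ := hV.exists_conj_ne hT hTV hTe
  have hT' := hT.conj g
  have hTV' := hTV.conj_of_normal g
  have hcomm := (hT.eq_or_commute hTV hT' hTV').resolve_left hg.symm
  let R : Subgroup T :=
    { carrier := {t | ∃ c ∈ V, (∀ y ∈ T, y * c = c * y) ∧ ((t : G) * c) • a = a}
      one_mem' := ⟨1, V.one_mem, by simp, by simp⟩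
      mul_mem' := by
        rintro s t ⟨c, hc, hc', hsc⟩ ⟨d, hd, hd', htd⟩
        refine ⟨c * d, V.mul_mem hc hd, fun y hy => ?_, ?_⟩
        · rw [← mul_assoc, hc' y hy, mul_assoc, hd' y hy, mul_assoc]
        · have : ((s * t : T) : G) * (c * d) = (s * c) * (t * d) := by
            rw [Subgroup.coe_mul, mul_assoc, ← mul_assoc (t : G), hc' t t.2]; group
          rw [this, mul_smul, htd, hsc]
      inv_mem' := by
        rintro s ⟨c, hc, hc', hsc⟩
        refine ⟨c⁻¹, V.inv_mem hc, fun y hy => ?_, ?_⟩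
        · exact (Commute.inv_right (show Commute y c from hc' y hy)).eq
        · have : ((s⁻¹ : T) : G) * c⁻¹ = (s * c)⁻¹ := by
            rw [hc' s s.2]; simp
          rw [this, inv_smul_eq_iff, hsc] }
  by_cases hR : R = ⊤
  · have hN : Perm2.NormalIn (T ⊓ stabilizer G a) T := by
      refine ⟨inf_le_left, Subgroup.le_normalizer_iff.mpr ?_⟩
      rintro t ht s ⟨hs, hsa⟩
      refine ⟨T.mul_mem (T.mul_mem ht hs) (T.inv_mem ht), ?_⟩
      obtain ⟨c, hc, hc', htc⟩ : (⟨t, ht⟩ : T) ∈ R := by rw [hR]; trivial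
      have h1 : t * s * t⁻¹ = (t * c) * s * (t * c)⁻¹ := by
        rw [mul_assoc t c s, ← hc' s hs]; group
      have h2 : (t * c)⁻¹ • a = a := by rw [inv_smul_eq_iff]; exact htc.symm
      have h3 : s • a = a := hsa
      change (t * s * t⁻¹) • a = a
      rw [h1, mul_smul, mul_smul, h2, h3]
      exact htc
    rcases hT.eq_bot_or_eq hN with h | h
    · have hder : ∀ x ∈ T, x ≠ 1 → ∀ ω : Ω, x • ω ≠ ω := by
        intro x hx hx1 ω hω
        obtain ⟨v, hv, rfl⟩ := Char.exists_mem_smul_eq hVt a ω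
        have : v⁻¹ * x * v ∈ T ⊓ stabilizer G a :=
          ⟨hTV.conj_mem' hv hx, by
            change (v⁻¹ * x * v) • a = a
            rw [mul_smul, mul_smul, hω, inv_smul_smul]⟩
        rw [h, Subgroup.mem_bot] at this
        apply hx1
        have h3 : x = v * (v⁻¹ * x * v) * v⁻¹ := by group
        rw [h3, this]; group
      obtain ⟨p, hp, -, hP⟩ := Char.exists_prime_of_orderOf_eq hT.ne_bot (fun x hx y hy hx1 hy1 => by
        obtain ⟨g, rfl⟩ := huniq x y (hder x hx hx1) (hder y hy hy1)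
        exact (Char.orderOf_conj' g x).symm)
      have : Fact p.Prime := ⟨hp⟩
      exact hT.not_isPGroup p hP
    · apply hT.ne_bot
      rw [eq_bot_iff]
      intro x hx
      rw [Subgroup.mem_bot]
      apply eq_of_smul_eq_smul (α := Ω)
      intro ω
      obtain ⟨v, hv, rfl⟩ := Char.exists_mem_smul_eq hVt a ω
      have h1 : v⁻¹ * x * v ∈ T ⊓ stabilizer G a := by rw [h]; exact hTV.conj_mem' hv hx
      have h2 : (v⁻¹ * x * v) • a = a := h1.2
      rw [mul_smul, mul_smul, inv_smul_eq_iff] at h2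
      rw [one_smul, h2]
  · obtain ⟨t, ht⟩ := exists_not_conj_mem R hR
    have hder : ∀ c ∈ V, (∀ y ∈ T, y * c = c * y) → ∀ ω : Ω, ((t : G) * c) • ω ≠ ω := by
      intro c hc hc' ω hω
      obtain ⟨v, hv, rfl⟩ := Char.exists_mem_smul_eq hVt a ω
      obtain ⟨u, hu, d, hd, hd', rfl⟩ := hV.exists_mul hT hTV hv
      apply ht ⟨u, hu⟩
      refine ⟨d⁻¹ * c * d, V.mul_mem (V.mul_mem (V.inv_mem hd) hc) hd, fun y hy => ?_, ?_⟩
      · have h1 : Commute y c := hc' y hy
        have h2 : Commute y d := hd' y hy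
        exact ((h2.inv_right.mul_right h1).mul_right h2).eq
      · have h1 : Commute (u⁻¹ * t * u) d :=
          hd' _ (T.mul_mem (T.mul_mem (T.inv_mem hu) t.2) hu)
        have h2 : Commute u c := hc' u hu
        have : (u⁻¹ * t * u) * (d⁻¹ * c * d) = (u * d)⁻¹ * ((t : G) * c) * (u * d) := by
          calc (u⁻¹ * t * u) * (d⁻¹ * c * d) = ((u⁻¹ * t * u) * d⁻¹) * c * d := by group
            _ = d⁻¹ * u⁻¹ * t * (u * c) * d := by rw [h1.inv_right.eq]; group
            _ = _ := by rw [h2.eq]; group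
        change ((u⁻¹ * t * u) * (d⁻¹ * c * d)) • a = a
        rw [this, mul_smul, mul_smul, hω, inv_smul_smul]
    have ht1 : (t : G) ≠ 1 := by
      intro h
      have := hder 1 V.one_mem (by simp) a
      rw [h] at this
      simp at this
    obtain ⟨⟨c, hc⟩, hc1⟩ := (Subgroup.ne_bot_iff_exists_ne_one).mp hT'.ne_bot
    have hc1' : c ≠ 1 := fun h => hc1 (Subtype.ext h)
    have hcT : ∀ y ∈ T, y * c = c * y := fun y hy => hcomm y hy c hc
    obtain ⟨x, hx⟩ := huniq (t * 1) (t * c) (hder 1 V.one_mem (by simp))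
      (hder c (hTV'.1 hc) hcT)
    rw [mul_one] at hx
    have h1 : (t : G) * c ∈ T.map (MulAut.conj x).toMonoidHom := by
      rw [← hx]; exact Perm2.conj_mem_map_conj x t.2
    rcases hT.eq_or_commute hTV (hT.conj x) (hTV.conj_of_normal x) with h | h
    · rw [← h] at h1
      exact hc1' (hT.eq_one_of_commute ((T.mul_mem_cancel_left t.2).mp h1) hcT)
    · apply ht1
      apply hT.eq_one_of_commute t.2
      intro y hy
      have h2 := h y hy _ h1
      rw [mul_assoc, ← hcT y hy, ← mul_assoc, ← mul_assoc] at h2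
      exact mul_right_cancel h2


/-- Let a finite group G act faithfully and primitively on a finite set Ω with at least two points, and suppose G is not almost simple (it has no non-abelian simple normal subgroup with trivial centralizer). Then the derangements of G form a single conjugacy class if and only if G is sharply 2-transitive (2-transitive, and no non-identity element fixes two points). -/
theorem result {G : Type*} [Group G] [Finite G] {Ω : Type*} [Fintype Ω] [MulAction G Ω] [FaithfulSMul G Ω] (hΩ : 2 ≤ Fintype.card Ω) (hprim : MulAction.IsPreprimitive G Ω) (hnas : ¬ ∃ T : Subgroup G, T.Normal ∧ IsSimpleGroup T ∧ ¬ IsMulCommutative T ∧ Subgroup.centralizer (T : Set G) = ⊥) :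
    Nat.card {c : ConjClasses G // ∃ g : G, ConjClasses.mk g = c ∧ ∀ ω : Ω, g • ω ≠ ω} = 1 ↔ (MulAction.IsMultiplyPretransitive G Ω 2 ∧ ∀ g : G, g ≠ 1 → ∀ a b : Ω, a ≠ b → g • a = a → g • b ≠ b) := by
  have hnt : Nontrivial Ω := Fintype.one_lt_card_iff_nontrivial.mp hΩ
  obtain ⟨a, b, hab⟩ := exists_pair_ne Ω
  have htr := hprim.toIsPretransitive
  constructor
  · intro h1
    have huniq : ∀ x y : G, (∀ ω : Ω, x • ω ≠ ω) → (∀ ω : Ω, y • ω ≠ ω) →
        ∃ g : G, g * x * g⁻¹ = y := by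
      intro x y hx hy
      have := (Nat.card_eq_one_iff_unique.mp h1).1
      have h2 := this.elim ⟨ConjClasses.mk x, x, rfl, hx⟩ ⟨ConjClasses.mk y, y, rfl, hy⟩
      exact isConj_iff.mp (ConjClasses.mk_eq_mk_iff_isConj.mp (congrArg Subtype.val h2))
    exact forward hprim hnas huniq
  · rintro ⟨h2, hs⟩
    obtain ⟨K, hKn, hK, hKt, hKr, -, -⟩ := Char.frobenius_perm (G := G) (Ω := Ω) (by
      intro g c d hcd hc hd
      by_contra h
      exact hs g h c d hcd hc hd) a
    obtain ⟨k, hk, hka⟩ := Char.exists_mem_smul_eq hKt a b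
    have hk1 : k ≠ 1 := by rintro rfl; exact hab (by simpa using hka)
    have hkd := ((hK k).mp hk).resolve_left hk1
    rw [Nat.card_eq_one_iff_unique]
    refine ⟨⟨?_⟩, ⟨⟨ConjClasses.mk k, k, rfl, hkd⟩⟩⟩
    rintro ⟨_, x, rfl, hx⟩ ⟨_, y, rfl, hy⟩
    apply Subtype.ext
    obtain ⟨g, -, hg⟩ := Char.conj_of_regular_normal h2 hKr a x ((hK x).mpr (Or.inr hx)) y
      ((hK y).mpr (Or.inr hy)) (by rintro rfl; exact hx a (one_smul _ _))
      (by rintro rfl; exact hy a (one_smul _ _))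
    exact ConjClasses.mk_eq_mk_iff_isConj.mpr (isConj_iff.mpr ⟨g, hg⟩)

end Cfsg.Agent.S3501
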