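import Cfsg.Statements.S3520
import Cfsg.Agent.Perm2.ONS
import Cfsg.Agent.Char.Burnside

set_option autoImplicit false
open Cfsg

namespace Cfsg.Agent.S3520

open Cfsg.Agent.Perm2 MulAction Subgroup

theorem exists_prime_order_ne {G : Type*} [Group G] [Finite G] {T : Subgroup G} (hT : SimpleNA T)
    {p q : ℕ} (hp : p.Prime) (hq : q.Prime) :
    ∃ r : ℕ, r.Prime ∧ r ≠ p ∧ r ≠ q ∧ ∃ x ∈ T, orderOf x = r := by
  by_contra hcon
  push Not at hcon
  apply hT.not_isSolvable
  apply Char.burnside_two_primes hp hq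
  intro r hr hdvd
  by_contra h
  push Not at h
  have : Fact r.Prime := ⟨hr⟩
  obtain ⟨z, hz⟩ := exists_prime_orderOf_dvd_card' (G := T) r hdvd
  exact hcon r hr h.1 h.2 z z.2 (by rw [← hz, orderOf_coe])

theorem exists_three_orders {G : Type*} [Group G] [Finite G] {T : Subgroup G} (hT : SimpleNA T) :
    ∃ x ∈ T, ∃ y ∈ T, ∃ z ∈ T, x ≠ 1 ∧ y ≠ 1 ∧ z ≠ 1 ∧ orderOf x ≠ orderOf y ∧
      orderOf x ≠ orderOf z ∧ orderOf y ≠ orderOf z := by
  obtain ⟨p, hp, -, -, x, hx, hxp⟩ := exists_prime_order_ne hT Nat.prime_two Nat.prime_two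
  obtain ⟨q, hq, hqp, -, y, hy, hyq⟩ := exists_prime_order_ne hT hp hp
  obtain ⟨r, hr, hrp, hrq, z, hz, hzr⟩ := exists_prime_order_ne hT hp hq
  have hne : ∀ (w : G) (s : ℕ), s.Prime → orderOf w = s → w ≠ 1 := by
    rintro w s hs h rfl
    rw [orderOf_one] at h
    exact hs.one_lt.ne h
  refine ⟨x, hx, y, hy, z, hz, hne x p hp hxp, hne y q hq hyq, hne z r hr hzr, ?_, ?_, ?_⟩
  · rw [hxp, hyq]; exact hqp.symm
  · rw [hxp, hzr]; exact hrp.symm
  · rw [hyq, hzr]; exact hrq.symm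

theorem orderOf_eq_of_isConj {G : Type*} [Group G] {x y : G} (h : IsConj x y) :
    orderOf x = orderOf y := by
  obtain ⟨c, rfl⟩ := isConj_iff.mp h
  exact ((MulAut.conj c).orderOf_eq x).symm

theorem eq_of_mul_eq {G : Type*} [Group G] {T T' : Subgroup G} (hT : SimpleNA T)
    (hc : ∀ x ∈ T, ∀ y ∈ T', x * y = y * x) {t s t' s' : G} (ht : t ∈ T) (hs : s ∈ T) (ht' : t' ∈ T')
    (hs' : s' ∈ T') (h : t * t' = s * s') : t = s ∧ t' = s' := by
  have h1 : s⁻¹ * t = s' * t'⁻¹ := by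
    rw [inv_mul_eq_iff_eq_mul, ← mul_assoc, ← h, mul_inv_cancel_right]
  have h2 : s⁻¹ * t = 1 := hT.eq_one_of_commute (mul_mem (inv_mem hs) ht) fun y hy => by
    rw [h1]; exact hc y hy _ (mul_mem hs' (inv_mem ht'))
  have h3 : t = s := (inv_mul_eq_one.mp h2).symm
  exact ⟨h3, by rw [h3] at h; exact mul_left_cancel h⟩

theorem orderOf_eq_of_isConj_mul {G : Type*} [Group G] {V T T' : Subgroup G} [V.Normal]
    (hT : SimpleNA T) (hTV : NormalIn T V) (hT' : SimpleNA T') (hTV' : NormalIn T' V) (hne : T ≠ T')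
    {x y y' : G} (hx : x ∈ T) (hx1 : x ≠ 1) (hy : y ∈ T') (hy1 : y ≠ 1) (hy' : y' ∈ T')
    (h : IsConj (x * y) (x * y')) : orderOf y = orderOf y' := by
  obtain ⟨u, hu⟩ := isConj_iff.mp h
  have hc := (hT.eq_or_commute hTV hT' hTV').resolve_left hne
  have hab : (u * x * u⁻¹) * (u * y * u⁻¹) = x * y' := by rw [← hu]; group
  have ha := conj_mem_map_conj u hx
  have hb := conj_mem_map_conj u hy
  have hA := hT.conj u
  have hB := hT'.conj u
  have hAV := hTV.conj_of_normal u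
  have hBV := hTV'.conj_of_normal u
  have hAB : T.map (MulAut.conj u).toMonoidHom ≠ T'.map (MulAut.conj u).toMonoidHom :=
    fun h => hne (map_injective (MulAut.conj u).injective h)
  have hcAB := (hA.eq_or_commute hAV hB hBV).resolve_left hAB
  have hox : orderOf (u * x * u⁻¹) = orderOf x := (MulAut.conj u).orderOf_eq x
  have hoy : orderOf (u * y * u⁻¹) = orderOf y := (MulAut.conj u).orderOf_eq y
  have key : ∀ {A : Subgroup G} {a b : G}, SimpleNA A → NormalIn A V → a ∈ A → a ≠ 1 →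
      (∀ z ∈ A, z * b = b * z) → a * b = x * y' → A = T ∨ A = T' := by
    intro A a b hA hAV ha ha1 hb hab
    by_contra hcon
    push Not at hcon
    have h1 := (hA.eq_or_commute hAV hT hTV).resolve_left hcon.1
    have h2 := (hA.eq_or_commute hAV hT' hTV').resolve_left hcon.2
    apply ha1
    apply hA.eq_one_of_commute ha
    intro z hz
    have h3 : a = x * y' * b⁻¹ := by rw [← hab, mul_inv_cancel_right]
    rw [h3]
    exact Commute.mul_right (Commute.mul_right (h1 z hz x hx) (h2 z hz y' hy'))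
      (Commute.inv_right (hb z hz))
  have ha1 : u * x * u⁻¹ ≠ 1 := fun h => hx1 (orderOf_eq_one_iff.mp (by rw [← hox, h, orderOf_one]))
  have hb1 : u * y * u⁻¹ ≠ 1 := fun h => hy1 (orderOf_eq_one_iff.mp (by rw [← hoy, h, orderOf_one]))
  have hba : (u * y * u⁻¹) * (u * x * u⁻¹) = x * y' := by rw [← hcAB _ ha _ hb, hab]
  rcases key hA hAV ha ha1 (fun z hz => hcAB z hz _ hb) hab with h1 | h1 <;>
    rcases key hB hBV hb hb1 (fun z hz => (hcAB _ ha z hz).symm) hba with h2 | h2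
  · exact absurd (h1.trans h2.symm) hAB
  · rw [← hoy, (eq_of_mul_eq hT hc (h1 ▸ ha) hx (h2 ▸ hb) hy' hab).2]
  · obtain ⟨h3, h4⟩ := eq_of_mul_eq hT hc (h2 ▸ hb) hx (h1 ▸ ha) hy' hba
    rw [← hoy, h3, ← hox, h4]
  · exact absurd (h1.trans h2.symm) hAB


/-- Let a finite group G act faithfully and primitively on a finite set Ω with at least two points, suppose G is not almost simple (no non-abelian simple normal subgroup with trivial centralizer), and suppose the derangements of G form exactly two conjugacy classes. Then either Ω has 3 points and G has order 3; or G has a non-trivial abelian normal subgroup N acting regularly, every non-identity element of G fixes at most one point (so, when n > 3, G is a Frobenius group with kernel N), the number n of points is odd and a point stabilizer has order (n − 1)/2; or G is 2-transitive with a non-trivial abelian regular normal subgroup and some non-identity element fixes at least two points (a non-Frobenius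 2-transitive affine group). -/
theorem result {G : Type*} [Group G] [Finite G] {Ω : Type*} [Fintype Ω] [MulAction G Ω] [FaithfulSMul G Ω] (hΩ : 2 ≤ Fintype.card Ω) (hprim : MulAction.IsPreprimitive G Ω) (hnas : ¬ ∃ T : Subgroup G, T.Normal ∧ IsSimpleGroup T ∧ ¬ IsMulCommutative T ∧ Subgroup.centralizer (T : Set G) = ⊥)
    (hκ : Nat.card {c : ConjClasses G // ∃ g : G, ConjClasses.mk g = c ∧ ∀ ω : Ω, g • ω ≠ ω} = 2) (α : Ω) :
    (Fintype.card Ω = 3 ∧ Nat.card G = 3) ∨
    ((∃ N : Subgroup G, N.Normal ∧ N ≠ ⊥ ∧ IsMulCommutative N ∧ ∀ ω : Ω, MulAction.stabilizer N ω = ⊥) ∧ (∀ g : G, g ≠ 1 → Nat.card (MulAction.fixedBy Ω g) ≤ 1) ∧ ¬ 2 ∣ Fintype.card Ω ∧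
        2 * Nat.card (MulAction.stabilizer G α) = Fintype.card Ω - 1) ∨
    ((∃ N : Subgroup G, N.Normal ∧ N ≠ ⊥ ∧ IsMulCommutative N ∧ ∀ ω : Ω, MulAction.stabilizer N ω = ⊥) ∧ MulAction.IsMultiplyPretransitive G Ω 2 ∧ ∃ g : G, g ≠ 1 ∧ 2 ≤ Nat.card (MulAction.fixedBy Ω g)) := by
  classical
  have : Nontrivial Ω := Fintype.one_lt_card_iff_nontrivial.mp hΩ
  obtain ⟨c₁, c₂, hc12, hcu⟩ := Nat.card_eq_two_iff.mp hκ
  have K1 : ∀ g₁ g₂ g₃ : G, (∀ ω : Ω, g₁ • ω ≠ ω) → (∀ ω : Ω, g₂ • ω ≠ ω) → (∀ ω : Ω, g₃ • ω ≠ ω) →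
      IsConj g₁ g₂ ∨ IsConj g₁ g₃ ∨ IsConj g₂ g₃ := by
    have hall : ∀ g : G, (∀ ω : Ω, g • ω ≠ ω) → ConjClasses.mk g = c₁.1 ∨ ConjClasses.mk g = c₂.1 := by
      intro g hg
      have : (⟨ConjClasses.mk g, g, rfl, hg⟩ :
          {c : ConjClasses G // ∃ g : G, ConjClasses.mk g = c ∧ ∀ ω : Ω, g • ω ≠ ω}) ∈
          ({c₁, c₂} : Set _) := hcu ▸ Set.mem_univ _
      rcases this with h | h
      · exact Or.inl (congrArg Subtype.val h)
      · exact Or.inr (congrArg Subtype.val h)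
    intro g₁ g₂ g₃ h1 h2 h3
    simp only [← ConjClasses.mk_eq_mk_iff_isConj]
    rcases hall g₁ h1 with e1 | e1 <;> rcases hall g₂ h2 with e2 | e2 <;>
      rcases hall g₃ h3 with e3 | e3 <;> simp [e1, e2, e3]
  have K2 : ∃ g₁ g₂ : G, (∀ ω : Ω, g₁ • ω ≠ ω) ∧ (∀ ω : Ω, g₂ • ω ≠ ω) ∧ ¬ IsConj g₁ g₂ := by
    obtain ⟨g₁, e1, h1⟩ := c₁.2
    obtain ⟨g₂, e2, h2⟩ := c₂.2
    refine ⟨g₁, g₂, h1, h2, fun h => hc12 (Subtype.ext ?_)⟩
    rw [← e1, ← e2, ConjClasses.mk_eq_mk_iff_isConj]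
    exact h
  rcases affine_or_almostSimple_or hprim with ⟨N, r, -, hN, hne, hab, -⟩ | h | ⟨T, hT, h⟩ |
    ⟨V, T, hV, hT, hTV, g, hg, x, hx, h⟩
  rotate_left
  · exact absurd h hnas
  · exfalso
    obtain ⟨x, hx, y, hy, z, hz, hx1, hy1, hz1, hxy, hxz, hyz⟩ := exists_three_orders hT
    rcases K1 x y z (h x hx hx1) (h y hy hy1) (h z hz hz1) with h1 | h1 | h1
    · exact hxy (orderOf_eq_of_isConj h1)
    · exact hxz (orderOf_eq_of_isConj h1)
    · exact hyz (orderOf_eq_of_isConj h1)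
  · exfalso
    obtain ⟨w, hw, y, hy, z, hz, hw1, hy1, hz1, hwy, hwz, hyz⟩ := exists_three_orders (hT.conj g)
    have hx1 : x ≠ 1 := by
      rintro rfl
      exact h 1 (one_mem _) α (by simp)
    have key := fun y y' => orderOf_eq_of_isConj_mul (y := y) (y' := y') hT hTV (hT.conj g)
      (hTV.conj_of_normal g) hg.symm hx hx1
    rcases K1 _ _ _ (h w hw) (h y hy) (h z hz) with h1 | h1 | h1
    · exact hwy (key _ _ hw hw1 hy h1)
    · exact hwz (key _ _ hw hw1 hz h1)
    · exact hyz (key _ _ hy hy1 hz h1)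
  right
  have htr := exists_smul_eq_of_normal hprim hN hne
  have hreg : ∀ n ∈ N, ∀ ω : Ω, n • ω = ω → n = 1 := fun n hn ω h =>
    eq_one_of_commute_transitive (htr ω) h fun m hm => hab m hm n hn
  have hder : ∀ n ∈ N, n ≠ 1 → ∀ ω : Ω, n • ω ≠ ω := fun n hn h1 ω h => h1 (hreg n hn ω h)
  have hNdata : ∃ N : Subgroup G, N.Normal ∧ N ≠ ⊥ ∧ IsMulCommutative N ∧
      ∀ ω : Ω, MulAction.stabilizer N ω = ⊥ := by
    refine ⟨N, hN, hne, isMulCommutative_iff_forall.mpr hab, fun ω => ?_⟩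
    rw [eq_bot_iff]
    intro n hn
    exact Subtype.ext (hreg n n.2 ω hn)
  have hinj : ∀ ω : Ω, ∀ n ∈ N, ∀ n' ∈ N, n • ω = n' • ω → n = n' := by
    intro ω n hn n' hn' h
    have := hreg (n'⁻¹ * n) (mul_mem (inv_mem hn') hn) ω (by rw [mul_smul, h, inv_smul_smul])
    exact (inv_mul_eq_one.mp this).symm
  by_cases hone : ∀ n ∈ N, n ≠ 1 → ∀ n' ∈ N, n' ≠ 1 → IsConj n n'
  · right
    refine ⟨hNdata, ?_, ?_⟩
    · rw [is_two_pretransitive_iff]
      intro a b c d hab' hcd
      obtain ⟨n, hn, rfl⟩ := htr a b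
      obtain ⟨n', hn', rfl⟩ := htr c d
      obtain ⟨u, hu⟩ := isConj_iff.mp (hone n hn (by rintro rfl; simp at hab') n' hn'
        (by rintro rfl; simp at hcd))
      obtain ⟨m, hm, hm'⟩ := htr (u • a) c
      refine ⟨m * u, by rw [mul_smul, hm'], ?_⟩
      rw [← hm', ← mul_smul, ← mul_smul, ← mul_smul, ← hab m hm n' hn', ← hu]
      congr 1
      group
    · by_contra hcon
      push Not at hcon
      have hfix : ∀ g : G, g ≠ 1 → ∀ x y : Ω, g • x = x → g • y = y → x = y := by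
        intro g hg x y hx hy
        have h1 : Nat.card (fixedBy Ω g) ≤ 1 := Nat.lt_succ_iff.mp (hcon g hg)
        have h2 := Finite.card_le_one_iff_subsingleton.mp h1
        exact congrArg Subtype.val (h2.elim ⟨x, hx⟩ ⟨y, hy⟩)
      have hall : ∀ g : G, (∀ ω : Ω, g • ω ≠ ω) → g ∈ N := by
        intro g hg
        by_contra hgN
        obtain ⟨m, hm, hm'⟩ := htr α (g • α)
        have hh : (m⁻¹ * g) • α = α := by rw [mul_smul, ← hm', inv_smul_smul]
        have hh1 : m⁻¹ * g ≠ 1 := fun h => hgN ((inv_mul_eq_one.mp h) ▸ hm)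
        set h := m⁻¹ * g with hhdef
        let φ : N → N := fun x => ⟨x * (h * (x : G)⁻¹ * h⁻¹), mul_mem x.2 (hN.conj_mem _ (inv_mem x.2) h)⟩
        have hφ : Function.Injective φ := by
          intro x y hxy
          have h1 : (x : G) * (h * (x : G)⁻¹ * h⁻¹) = y * (h * (y : G)⁻¹ * h⁻¹) := congrArg Subtype.val hxy
          have h2 : h * ((y : G)⁻¹ * x) = ((y : G)⁻¹ * x) * h := by
            calc h * ((y : G)⁻¹ * x) = (y : G)⁻¹ * ((y : G) * (h * (y : G)⁻¹ * h⁻¹)) * h * x := by group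
              _ = (y : G)⁻¹ * ((x : G) * (h * (x : G)⁻¹ * h⁻¹)) * h * x := by rw [h1]
              _ = _ := by group
          have h3 := hfix h hh1 (((y : G)⁻¹ * x) • α) α (by rw [← mul_smul, h2, mul_smul, hh]) hh
          have h4 := hreg _ (mul_mem (inv_mem y.2) x.2) α h3
          exact Subtype.ext (inv_mul_eq_one.mp h4).symm
        obtain ⟨x, hx⟩ := Finite.surjective_of_injective hφ ⟨m, hm⟩
        have h1 : (x : G) * (h * (x : G)⁻¹ * h⁻¹) = m := congrArg Subtype.val hx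
        apply hg ((x : G) • α)
        have h2 : g = x * h * (x : G)⁻¹ := by
          calc g = m * h := by rw [hhdef]; group
            _ = _ := by rw [← h1]; group
        rw [h2, mul_smul, inv_smul_smul, mul_smul, hh]
      obtain ⟨g₁, g₂, h1, h2, h3⟩ := K2
      exact h3 (hone g₁ (hall g₁ h1) (by rintro rfl; exact h1 α (one_smul _ _)) g₂ (hall g₂ h2)
        (by rintro rfl; exact h2 α (one_smul _ _)))
  · left
    push Not at hone
    obtain ⟨n₁, hn₁, hn₁1, n₂, hn₂, hn₂1, hnc⟩ := hone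
    have hcl : ∀ g : G, (∀ ω : Ω, g • ω ≠ ω) → IsConj n₁ g ∨ IsConj n₂ g := fun g hg =>
      (K1 n₁ n₂ g (hder n₁ hn₁ hn₁1) (hder n₂ hn₂ hn₂1) hg).resolve_left hnc
    have hout : ∀ g : G, g ∉ N → ∃ x : Ω, g • x = x := by
      intro g hg
      by_contra hcon
      push Not at hcon
      apply hg
      rcases hcl g hcon with h | h
      · obtain ⟨c, rfl⟩ := isConj_iff.mp h
        exact hN.conj_mem _ hn₁ c
      · obtain ⟨c, rfl⟩ := isConj_iff.mp h
        exact hN.conj_mem _ hn₂ c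
    have : Nonempty Ω := ⟨α⟩
    have huniq := (Local.transitive_and_unique_fixed_of_derangements_mem N hout).2
    have hfix : ∀ g : G, g ≠ 1 → ∀ x y : Ω, g • x = x → g • y = y → x = y := by
      intro g hg x y hx hy
      by_cases hgN : g ∈ N
      · exact absurd (hreg g hgN x hx) hg
      · exact huniq g hgN x y hx hy
    have hcard : 2 * Nat.card (stabilizer G α) = Fintype.card Ω - 1 := by
      have hne' : ∀ n ∈ N, n ≠ 1 → ∀ h : stabilizer G α, (h : G) • n • α ≠ α := by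
        intro n hn hn1 h hh
        apply hder n hn hn1 α
        rw [← smul_left_cancel_iff (h : G), hh, mem_stabilizer_iff.mp h.2]
      let f : stabilizer G α ⊕ stabilizer G α → {β : Ω // β ≠ α} := fun s => match s with
        | Sum.inl h => ⟨(h : G) • n₁ • α, hne' n₁ hn₁ hn₁1 h⟩
        | Sum.inr h => ⟨(h : G) • n₂ • α, hne' n₂ hn₂ hn₂1 h⟩
      have hsame : ∀ n ∈ N, n ≠ 1 → ∀ h k : stabilizer G α, (h : G) • n • α = (k : G) • n • α → h = k := by
        intro n hn hn1 h k hhk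
        by_contra hne
        have h1 : ((k⁻¹ * h : stabilizer G α) : G) ≠ 1 := fun e => hne (by
          have : k⁻¹ * h = 1 := Subtype.ext e
          exact (inv_mul_eq_one.mp this).symm)
        apply hder n hn hn1 α
        apply hfix _ h1 _ _ _ (k⁻¹ * h).2
        rw [coe_mul, mul_smul, hhk, coe_inv, inv_smul_smul]
      have hdiff : ∀ h k : stabilizer G α, (h : G) • n₁ • α ≠ (k : G) • n₂ • α := by
        intro h k hhk
        apply hnc
        rw [isConj_iff]
        refine ⟨(k : G)⁻¹ * h, hinj α _ (hN.conj_mem _ hn₁ _) _ hn₂ ?_⟩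
        have h1 : ((k : G)⁻¹ * h)⁻¹ • α = α := inv_mem (mul_mem (inv_mem k.2) h.2)
        rw [mul_smul, h1, mul_smul, mul_smul, hhk, inv_smul_smul]
      have hf : Function.Bijective f := by
        constructor
        · rintro (h | h) (k | k) hhk
          · rw [hsame n₁ hn₁ hn₁1 h k (congrArg Subtype.val hhk)]
          · exact absurd (congrArg Subtype.val hhk) (hdiff h k)
          · exact absurd (congrArg Subtype.val hhk).symm (hdiff k h)
          · rw [hsame n₂ hn₂ hn₂1 h k (congrArg Subtype.val hhk)]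
        · rintro ⟨β, hβ⟩
          obtain ⟨n, hn, rfl⟩ := htr α β
          have hn1 : n ≠ 1 := by rintro rfl; simp at hβ
          have key : ∀ n₀ ∈ N, IsConj n₀ n → ∃ h : stabilizer G α, (h : G) • n₀ • α = n • α := by
            intro n₀ hn₀ hc
            obtain ⟨u, hu⟩ := isConj_iff.mp hc
            obtain ⟨m, hm, hm'⟩ := htr (u • α) α
            refine ⟨⟨m * u, by rw [mem_stabilizer_iff, mul_smul, hm']⟩, ?_⟩
            show (m * u) • n₀ • α = n • α
            nth_rewrite 2 [← hm']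
            rw [← mul_smul, ← mul_smul, ← mul_smul, ← hab m hm n hn, ← hu]
            congr 1
            group
          rcases hcl n (hder n hn hn1) with h | h
          · obtain ⟨k, hk⟩ := key n₁ hn₁ h
            exact ⟨Sum.inl k, Subtype.ext hk⟩
          · obtain ⟨k, hk⟩ := key n₂ hn₂ h
            exact ⟨Sum.inr k, Subtype.ext hk⟩
      have h1 := Nat.card_eq_of_bijective f hf
      rw [Nat.card_sum, Nat.card_eq_fintype_card (α := {β : Ω // β ≠ α}), Fintype.card_subtype_compl,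
        Fintype.card_subtype_eq] at h1
      omega
    refine ⟨hNdata, fun g hg => ?_, by omega, hcard⟩
    exact Finite.card_le_one_iff_subsingleton.mpr
      ⟨fun x y => Subtype.ext (hfix g hg x y x.2 y.2)⟩

end Cfsg.Agent.S3520
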