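import Cfsg.Statements.S3554

set_option autoImplicit false
open Cfsg

namespace Cfsg.Agent.S3554

/-- Let G act faithfully and transitively on a finite set and suppose G has a non-trivial cyclic normal subgroup. Then some element of G of prime order fixes no point. -/
theorem result {G Ω : Type*} [Group G] [Finite G] [MulAction G Ω] [FaithfulSMul G Ω] [Finite Ω]
    (htrans : MulAction.IsPretransitive G Ω) (C : Subgroup G) (hC : C.Normal) (hC1 : C ≠ ⊥) (hcyc : IsCyclic ↥C) :
    ∃ g : G, (orderOf g).Prime ∧ ∀ ω : Ω, g • ω ≠ ω := by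
  haveI : Nontrivial C := (Subgroup.nontrivial_iff_ne_bot C).mpr hC1
  have h1 : Nat.card C ≠ 1 := by
    have := Finite.one_lt_card (α := C)
    omega
  obtain ⟨p, hp, hpd⟩ := Nat.exists_prime_and_dvd h1
  haveI := Fact.mk hp
  obtain ⟨c, hc⟩ := exists_prime_orderOf_dvd_card' p hpd
  have hcG : orderOf (c : G) = p := by rw [Subgroup.orderOf_coe, hc]
  refine ⟨c, hcG ▸ hp, fun ω hω => ?_⟩
  have hc1 : (c : G) ≠ 1 := by
    intro h
    rw [h, orderOf_one] at hcG
    exact hp.one_lt.ne hcG
  apply hc1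
  apply FaithfulSMul.eq_of_smul_eq_smul (α := Ω)
  intro ω'
  obtain ⟨g, rfl⟩ := htrans.exists_smul_eq ω ω'
  rw [one_smul]
  let φ : C →* C := (MulAut.conjNormal (H := C) g⁻¹).toMonoidHom
  obtain ⟨k, hk⟩ := MonoidHom.map_cyclic φ
  have hk' : (c : G) ^ k = g⁻¹ * c * g := by
    have := congrArg Subtype.val (hk c)
    simpa [φ] using this.symm
  have : (g⁻¹ * c * g) • ω = ω := by
    rw [← hk']
    exact (MulAction.stabilizer G ω).zpow_mem hω k
  rw [mul_smul, mul_smul, inv_smul_eq_iff] at this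
  exact this

end Cfsg.Agent.S3554
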