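import Cfsg.Statements.S3555
import Cfsg.Agent.Char.PermTools

set_option autoImplicit false
open Cfsg

namespace Cfsg.Agent.S3555

theorem no_two_fixed {G Ω : Type*} [Group G] [Finite G] [MulAction G Ω] [FaithfulSMul G Ω]
    [Finite Ω] [Nonempty Ω] (htrans : MulAction.IsPretransitive G Ω)
    (hinv : ∀ g : G, (∀ ω : Ω, g • ω ≠ ω) → orderOf g = 2) :
    ∀ g : G, ∀ a b : Ω, a ≠ b → g • a = a → g • b = b → g = 1 := by
  classical
  have := Fintype.ofFinite G
  have := Fintype.ofFinite Ω
  let F : G → Finset Ω := fun g => Finset.univ.filter (fun a => g • a = a)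
  let X : Finset G := Finset.univ.filter (fun g => ∀ ω : Ω, g • ω ≠ ω)
  have hF : ∀ g, Nat.card (MulAction.fixedBy Ω g) = (F g).card := by
    intro g
    rw [Nat.card_eq_fintype_card, Fintype.card_subtype]
    congr 1
  have h1 : ∑ g, (F g).card = Fintype.card G := by
    rw [← Nat.card_eq_fintype_card, ← Char.sum_fixedBy_of_transitive (G := G) (Ω := Ω)]
    simp only [hF]
  have hsq : ∀ x ∈ X, ∀ a : Ω, x • x • a = a := by
    intro x hx a
    have := hinv x (Finset.mem_filter.mp hx).2
    rw [← mul_smul, ← sq, ← this, pow_orderOf_eq_one, one_smul]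
  have hex : ∀ a b : Ω, ∃ y : G, (∃ x ∈ X, x • a = b) → y ∈ X ∧ y • a = b := by
    intro a b
    by_cases h : ∃ x ∈ X, x • a = b
    · obtain ⟨x, hx⟩ := h
      exact ⟨x, fun _ => hx⟩
    · exact ⟨1, fun hh => absurd hh h⟩
  choose y hy using hex
  have h2 : (X ×ˢ (Finset.univ : Finset Ω)).card ≤
      (Finset.univ.sigma (fun g : G => (F g).offDiag)).card := by
    apply Finset.card_le_card_of_injOn (fun p => ⟨y p.2 (p.1 • p.2) * p.1, (p.2, p.1 • p.2)⟩)
    · rintro ⟨x, a⟩ hp
      have hx : x ∈ X := (Finset.mem_product.mp hp).1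
      obtain ⟨hy1, hy2⟩ := hy a (x • a) ⟨x, hx, rfl⟩
      simp only [Finset.coe_sigma, Finset.coe_univ, Set.mem_sigma_iff, Set.mem_univ, true_and,
        Finset.mem_coe, Finset.mem_offDiag, F, Finset.mem_filter, Finset.mem_univ]
      refine ⟨?_, ?_, ((Finset.mem_filter.mp hx).2 a).symm⟩
      · rw [mul_smul]
        conv_lhs => enter [2]; rw [← hy2]
        exact hsq _ hy1 a
      · rw [mul_smul, hsq x hx a, hy2]
    · rintro ⟨x, a⟩ _ ⟨x', a'⟩ _ h
      simp only [Sigma.mk.injEq, heq_eq_eq, Prod.mk.injEq] at h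
      obtain ⟨h3, rfl, h4⟩ := h
      rw [h4] at h3
      rw [mul_left_cancel h3]
  rw [Finset.card_product, Finset.card_sigma, Finset.card_univ] at h2
  simp only [Finset.offDiag_card] at h2
  have hle : ∀ g, (F g).card ≤ Fintype.card Ω := fun g => Finset.card_le_univ _
  have hX : ∀ g, g ∈ X ↔ (F g).card = 0 := by
    intro g
    simp [X, F, Finset.card_eq_zero, Finset.filter_eq_empty_iff]
  have h3 : (∑ g, (((F g).card : ℤ) * (F g).card - (F g).card)) ≥ X.card * Fintype.card Ω := by
    have : ∀ g, (((F g).card * (F g).card - (F g).card : ℕ) : ℤ) =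
        ((F g).card : ℤ) * (F g).card - (F g).card := by
      intro g
      rw [Nat.cast_sub (Nat.le_mul_self _)]; push_cast; rfl
    rw [← Finset.sum_congr rfl (fun g _ => this g)]
    exact_mod_cast h2
  have h4 : ∑ g, ((F g).card : ℤ) = Fintype.card G := by exact_mod_cast h1
  let t : G → ℤ := fun g => if g ∈ X then 0 else
    ((Fintype.card Ω : ℤ) - (F g).card) * ((F g).card - 1)
  have ht0 : ∀ g, 0 ≤ t g := by
    intro g
    simp only [t]
    split_ifs with h
    · exact le_rfl
    · have := hle g
      have := (hX g).not.mp h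
      apply mul_nonneg <;> omega
  have ht1 : ∀ g, t g = (Fintype.card Ω : ℤ) * (F g).card - Fintype.card Ω
      - (((F g).card : ℤ) * (F g).card - (F g).card)
      + Fintype.card Ω * (if g ∈ X then 1 else 0) := by
    intro g
    simp only [t]
    split_ifs with h
    · rw [(hX g).mp h]; simp
    · ring
  have ht2 : ∑ g, t g ≤ 0 := by
    simp only [ht1, Finset.sum_add_distrib, Finset.sum_sub_distrib, ← Finset.mul_sum, h4,
      Finset.sum_const, Finset.card_univ, Finset.sum_boole, Finset.filter_mem_eq_inter,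
      Finset.univ_inter, nsmul_eq_mul]
    rw [Finset.sum_sub_distrib, h4] at h3
    linarith
  have ht3 := (Finset.sum_eq_zero_iff_of_nonneg (fun g _ => ht0 g)).mp
    (le_antisymm ht2 (Finset.sum_nonneg (fun g _ => ht0 g)))
  intro g a b hab ha hb
  have h5 : 1 < (F g).card := Finset.one_lt_card.mpr ⟨a, by simp [F, ha], b, by simp [F, hb], hab⟩
  have h6 := ht3 g (Finset.mem_univ g)
  simp only [t] at h6
  rw [if_neg (by rw [hX]; omega)] at h6
  have h7 : (F g).card = Fintype.card Ω := by
    rcases mul_eq_zero.mp h6 with h | h <;> omega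
  have h8 := Finset.eq_univ_of_card _ h7
  apply eq_of_smul_eq_smul (α := Ω)
  intro c
  have : c ∈ F g := by rw [h8]; exact Finset.mem_univ c
  rw [one_smul]
  exact (Finset.mem_filter.mp this).2


/-- Let G act faithfully and transitively on a finite set and suppose every element of G fixing no point is an involution. Then either G is an elementary abelian 2-group, or G is a Frobenius group whose Frobenius kernel is an elementary abelian 2-group: G has a Frobenius complement H, and the elements lying in no conjugate of H, together with the identity, pairwise commute and square to the identity. -/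
theorem result {G Ω : Type*} [Group G] [Finite G] [MulAction G Ω] [FaithfulSMul G Ω] [Finite Ω]
    (htrans : MulAction.IsPretransitive G Ω) (hinv : ∀ g : G, (∀ ω : Ω, g • ω ≠ ω) → orderOf g = 2) :
    (IsMulCommutative G ∧ ∀ g : G, g ^ 2 = 1) ∨
    (∃ H : Subgroup G, Cfsg.IsFrobeniusComplement H ∧
      (∀ x ∈ Cfsg.frobeniusKernel H, x ^ 2 = 1) ∧
      ∀ x ∈ Cfsg.frobeniusKernel H, ∀ y ∈ Cfsg.frobeniusKernel H, x * y = y * x) := by
  have hne : Nonempty Ω := by
    by_contra h
    rw [not_nonempty_iff] at h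
    have := hinv 1 (fun ω => isEmptyElim ω)
    simp at this
  have h2 := no_two_fixed htrans hinv
  obtain ⟨a⟩ := hne
  obtain ⟨K, hKn, hK, -, -, -, -⟩ := Char.frobenius_perm h2 a
  have hsq : ∀ x ∈ K, x ^ 2 = 1 := by
    intro x hx
    rcases (hK x).mp hx with h | h
    · rw [h, one_pow]
    · rw [← hinv x h, pow_orderOf_eq_one]
  have hcomm : ∀ x ∈ K, ∀ y ∈ K, x * y = y * x := by
    intro x hx y hy
    have h1 := hsq _ (K.mul_mem hx hy)
    have h3 := hsq x hx
    have h4 := hsq y hy
    rw [sq] at h1 h3 h4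
    calc x * y = x * (x * y * (x * y)) * y := by rw [h1]; group
      _ = (x * x) * y * x * (y * y) := by group
      _ = y * x := by rw [h3, h4]; group
  by_cases hb : MulAction.stabilizer G a = ⊥
  · have hall : ∀ g, g ∈ K := by
      intro g
      rw [hK]
      by_contra hh
      push Not at hh
      obtain ⟨hg1, b, hb'⟩ := hh
      obtain ⟨c, rfl⟩ := MulAction.exists_smul_eq G a b
      have : c⁻¹ * g * c ∈ MulAction.stabilizer G a := by
        rw [MulAction.mem_stabilizer_iff, mul_smul, mul_smul, hb', inv_smul_smul]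
      rw [hb, Subgroup.mem_bot] at this
      apply hg1
      have h3 : g = c * (c⁻¹ * g * c) * c⁻¹ := by group
      rw [h3, this]; group
    exact Or.inl ⟨⟨⟨fun x y => hcomm x (hall x) y (hall y)⟩⟩, fun g => hsq g (hall g)⟩
  · right
    have ht : MulAction.stabilizer G a ≠ ⊤ := by
      intro ht
      apply hb
      rw [eq_bot_iff]
      intro g _
      rw [Subgroup.mem_bot]
      apply eq_of_smul_eq_smul (α := Ω)
      intro b
      obtain ⟨c, rfl⟩ := MulAction.exists_smul_eq G a b
      have h3 : c ∈ MulAction.stabilizer G a := by rw [ht]; trivial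
      have h4 : g ∈ MulAction.stabilizer G a := by rw [ht]; trivial
      rw [MulAction.mem_stabilizer_iff] at h3 h4
      rw [h3, h4, one_smul]
    have hmem : ∀ x ∈ Cfsg.frobeniusKernel (MulAction.stabilizer G a), x ∈ K := fun x hx =>
      (hK x).mpr ((Char.mem_frobeniusKernel_stabilizer a x).mp hx)
    exact ⟨_, Char.isFrobeniusComplement_stabilizer h2 a hb ht, fun x hx => hsq x (hmem x hx),
      fun x hx y hy => hcomm x (hmem x hx) y (hmem y hy)⟩

end Cfsg.Agent.S3555
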