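import Cfsg.Statements.S3556
import Cfsg.Agent.Perm2.ONS

set_option autoImplicit false
open Cfsg

namespace Cfsg.Agent.S3556

open Cfsg.Agent.Perm2 MulAction Subgroup


/-- Let G act faithfully and primitively on a finite set with at least two points, and suppose that for some fixed prime p every element of G fixing no point has order a power of p. Then G is of affine type (it has a regular normal subgroup that is an elementary abelian r-group for some prime r) or almost simple (it has a non-abelian simple normal subgroup with trivial centralizer). -/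
theorem result {G Ω : Type*} [Group G] [Finite G] [MulAction G Ω] [FaithfulSMul G Ω] [Finite Ω]
    (hprim : MulAction.IsPreprimitive G Ω) (hΩ : 2 ≤ Nat.card Ω) (p : ℕ) (hp : p.Prime)
    (hder : ∀ g : G, (∀ ω : Ω, g • ω ≠ ω) → ∃ k : ℕ, orderOf g = p ^ k) :
    (∃ (N : Subgroup G) (r : ℕ), r.Prime ∧ N.Normal ∧ Cfsg.IsElementaryAbelian r N ∧
      MulAction.IsPretransitive N Ω ∧ ∀ a : Ω, MulAction.stabilizer N a = ⊥) ∨
    (∃ T : Subgroup G, T.Normal ∧ IsSimpleGroup ↥T ∧ ¬ IsMulCommutative ↥T ∧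
      Subgroup.centralizer (T : Set G) = ⊥) := by
  have : Nontrivial Ω := Finite.one_lt_card_iff_nontrivial.mp hΩ
  have : Fact p.Prime := ⟨hp⟩
  rcases affine_or_almostSimple_or hprim with ⟨N, r, hr, hN, hne, h1, h2⟩ | h | ⟨T, hT, h⟩ |
    ⟨V, T, hV, hT, hTV, g, hg, x, hx, h⟩
  · left
    have htr := exists_smul_eq_of_normal hprim hN hne
    refine ⟨N, r, hr, hN, ⟨isMulCommutative_iff_forall.mpr h1, h2⟩, ⟨fun x y => ?_⟩, fun ω => ?_⟩
    · obtain ⟨n, hn, h⟩ := htr x y
      exact ⟨⟨n, hn⟩, h⟩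
    · rw [eq_bot_iff]
      intro n hn
      exact Subtype.ext (eq_one_of_commute_transitive (htr ω) hn fun m hm => h1 m hm n n.2)
  · exact Or.inr h
  · exfalso
    obtain ⟨q, hq, hqp, y, hy, hyq⟩ := exists_orderOf_prime_ne_of_not_isPGroup (hT.not_isPGroup p)
    have hy1 : y ≠ 1 := by
      rintro rfl
      rw [orderOf_one] at hyq
      exact hq.one_lt.ne hyq
    obtain ⟨k, hk⟩ := hder y (h y hy hy1)
    have h3 : q ∣ p ^ k := by rw [← hk, hyq]
    exact hqp ((Nat.prime_dvd_prime_iff_eq hq hp).mp (hq.dvd_of_dvd_pow h3))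
  · exfalso
    obtain ⟨q, hq, hqp, y, hy, hyq⟩ :=
      exists_orderOf_prime_ne_of_not_isPGroup ((hT.conj g).not_isPGroup p)
    obtain ⟨k, hk⟩ := hder _ (h y hy)
    have hc := (hT.eq_or_commute hTV (hT.conj g) (hTV.conj_of_normal g)).resolve_left hg.symm
    have h1 : (x * y) ^ p ^ k = 1 := by rw [← hk]; exact pow_orderOf_eq_one _
    rw [Commute.mul_pow (hc x hx y hy), mul_eq_one_iff_inv_eq] at h1
    have h2 : y ^ p ^ k = 1 := by
      apply (hT.conj g).eq_one_of_commute (pow_mem hy _)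
      intro z hz
      rw [← h1]
      exact (hc _ (inv_mem (pow_mem hx _)) z hz).symm
    have h3 : q ∣ p ^ k := by rw [← hyq]; exact orderOf_dvd_of_pow_eq_one h2
    exact hqp ((Nat.prime_dvd_prime_iff_eq hq hp).mp (hq.dvd_of_dvd_pow h3))

end Cfsg.Agent.S3556
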