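import Cfsg.Statements.S3557
import Cfsg.Agent.Perm1.PGroup

set_option autoImplicit false
open Cfsg

namespace Cfsg.Agent.S3557

open MulAction

theorem core {Q Ω : Type*} [Group Q] [Finite Q] [MulAction Q Ω] [Finite Ω] {p : ℕ} [hp : Fact p.Prime]
    (hQ : IsPGroup p Q) (z : Q) (hz : z ∈ Subgroup.center Q) (α β : Ω) (hα : z • α ≠ α)
    (hA : (stabilizer Q α).index = p ^ 2) (hB : (stabilizer Q β).index = p ^ 2) :
    ∃ w : Q, (∀ y ∈ orbit Q β, w • y ≠ y ∧ w ^ p • y = y) ∧
      ∀ x ∈ orbit Q α, ∃ u : Q, ∃ j : ℤ, u • x = x ∧ w = u * z ^ j := by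
  have hzn : (Subgroup.zpowers z).Normal := ⟨fun n hn g => by
    have : n ∈ Subgroup.center Q := (Subgroup.zpowers_le.mpr hz) hn
    rw [Subgroup.mem_center_iff.mp this g]; simpa using hn⟩
  set L := stabilizer Q α ⊔ Subgroup.zpowers z with hL
  have h1 := Subgroup.relIndex_mul_index (le_sup_left : stabilizer Q α ≤ L)
  rw [hA] at h1
  have h2 : L.index ∣ p := by
    have h3 : L.index ∣ p ^ 2 := Dvd.intro_left _ h1
    obtain ⟨j, hj, hj'⟩ := (Nat.dvd_prime_pow hp.out).mp h3
    have : j ≠ 2 := by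
      rintro rfl
      rw [hj'] at h1
      have h4 : (stabilizer Q α).relIndex L = 1 :=
        Nat.eq_of_mul_eq_mul_right (pow_pos hp.out.pos 2) (by rw [h1, one_mul])
      rw [Subgroup.relIndex_eq_one] at h4
      exact hα (h4 (Subgroup.mem_sup_right (Subgroup.mem_zpowers z)))
    rw [hj']
    calc p ^ j ∣ p ^ 1 := pow_dvd_pow p (by omega)
      _ = p := pow_one p
  have hLn : L.Normal := by
    rcases (Nat.dvd_prime hp.out).mp h2 with h | h
    · rw [Subgroup.index_eq_one.mp h]; infer_instance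
    · apply Subgroup.normal_of_index_eq_minFac_card
      obtain ⟨k, hk⟩ := hQ.exists_card_eq
      have hk0 : k ≠ 0 := by
        rintro rfl
        have := L.index_dvd_card
        rw [h, hk, pow_zero, Nat.dvd_one] at this
        exact hp.out.one_lt.ne' this
      rw [h, hk, hp.out.pow_minFac hk0]
  let φ := (MulAction.toPermHom Q (orbit Q β)).rangeRestrict
  have hφ : Function.Surjective φ := MonoidHom.rangeRestrict_surjective _
  have hφa : ∀ (q : Q) (y : orbit Q β), (((φ q).1 y : orbit Q β) : Ω) = q • (y : Ω) := fun _ _ => rfl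
  have : (L.map φ).Normal := hLn.map φ hφ
  have hne : L.map φ ≠ ⊥ := by
    intro h
    have h3 : L ≤ stabilizer Q β := by
      intro q hq
      have : φ q ∈ L.map φ := Subgroup.mem_map_of_mem φ hq
      rw [h, Subgroup.mem_bot] at this
      have h4 := hφa q ⟨β, mem_orbit_self β⟩
      rw [this] at h4
      exact h4.symm
    have h4 := (Subgroup.index_dvd_of_le h3).trans h2
    rw [hB] at h4
    have := Nat.le_of_dvd hp.out.pos h4
    have := hp.out.one_lt
    nlinarith
  obtain ⟨_, ⟨w, hwL, rfl⟩, hwc, hwo⟩ := Perm1.exists_central_orderOf_eq (hQ.of_surjective φ hφ) (L.map φ) hne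
  refine ⟨w, ?_, ?_⟩
  · intro y hy
    constructor
    · intro hwy
      have : φ w = 1 := by
        apply Subtype.ext
        ext1 y'
        apply Subtype.ext
        obtain ⟨q, hq⟩ := exists_smul_eq Q (⟨y, hy⟩ : orbit Q β) y'
        have h5 := Subgroup.mem_center_iff.mp hwc (φ q)
        rw [← map_mul, ← map_mul] at h5
        have h6 := hφa (q * w) ⟨y, hy⟩
        rw [h5, hφa, mul_smul, mul_smul] at h6
        rw [hφa, ← hq]
        change w • q • y = q • y
        rw [h6]; exact congrArg _ hwy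
      rw [this, orderOf_one] at hwo
      exact hp.out.one_lt.ne hwo
    · have h5 := hφa (w ^ p) ⟨y, hy⟩
      rw [map_pow, ← hwo, pow_orderOf_eq_one] at h5
      rw [← hwo]
      exact h5.symm
  · rintro _ ⟨q, rfl⟩
    have h5 : q⁻¹ * w * q ∈ (L : Set Q) := hLn.conj_mem' w hwL q
    rw [hL, Subgroup.mul_normal] at h5
    obtain ⟨u, hu, _, ⟨j, rfl⟩, h6⟩ := h5
    refine ⟨q * u * q⁻¹, j, ?_, ?_⟩
    · change (q * u * q⁻¹) • q • α = q • α
      rw [mul_smul, mul_smul, inv_smul_smul, show u • α = α from hu]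
    · have h7 := Subgroup.mem_center_iff.mp ((Subgroup.center Q).zpow_mem hz j) q⁻¹
      have h8 : u * z ^ j = q⁻¹ * w * q := h6
      rw [mul_assoc, h7, ← mul_assoc, mul_assoc q, h8]
      group


/-- Let G act faithfully and transitively on a finite set with 2p² points, p a prime, and suppose G is 2-closed: every permutation of the set which, on each ordered pair of points, agrees with some element of G, is itself induced by an element of G. Then some element of G of prime order fixes no point. -/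
theorem result {G Ω : Type*} [Group G] [Finite G] [MulAction G Ω] [FaithfulSMul G Ω] [Finite Ω]
    (htrans : MulAction.IsPretransitive G Ω) (p : ℕ) (hp : p.Prime) (hcard : Nat.card Ω = 2 * p ^ 2)
    (hcl : ∀ σ : Equiv.Perm Ω, (∀ a b : Ω, ∃ g : G, σ a = g • a ∧ σ b = g • b) → ∃ g : G, ∀ a : Ω, σ a = g • a) :
    ∃ g : G, (orderOf g).Prime ∧ ∀ ω : Ω, g • ω ≠ ω := by
  classical
  have := Fact.mk hp
  have hpos : 0 < Nat.card Ω := by rw [hcard]; exact Nat.mul_pos two_pos (pow_pos hp.pos _)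
  obtain ⟨ω0⟩ : Nonempty Ω := (Nat.card_pos_iff.mp hpos).1
  obtain ⟨P⟩ : Nonempty (Sylow p G) := inferInstance
  have hidx : ∀ ω : Ω, p ^ 2 ∣ (stabilizer (P : Subgroup G) ω).index := fun ω =>
    Perm1.pow_dvd_index_stabilizer_sylow P ω (by rw [hcard]; exact Dvd.intro_left _ rfl)
  have h3 : (⊤ : Subgroup (P : Subgroup G)) ≠ ⊥ := by
    intro h4
    have h5 := (hidx ω0).trans (Subgroup.index_dvd_card _)
    rw [← Subgroup.card_top, h4, Subgroup.card_bot, Nat.dvd_one, Nat.pow_eq_one] at h5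
    rcases h5 with h5 | h5
    · exact hp.one_lt.ne' h5
    · omega
  obtain ⟨z, -, hz, hzo⟩ := Perm1.exists_central_orderOf_eq P.isPGroup' ⊤ h3
  have hzG : orderOf (z : G) = p := by rw [Subgroup.orderOf_coe, hzo]
  by_cases hfix : ∀ ω : Ω, (z : G) • ω ≠ ω
  · exact ⟨z, by rw [hzG]; exact hp, hfix⟩
  push Not at hfix
  obtain ⟨β, hβ⟩ := hfix
  obtain ⟨α, hα⟩ : ∃ α : Ω, (z : G) • α ≠ α := by
    by_contra hcon
    push Not at hcon
    have : (z : G) = 1 := FaithfulSMul.eq_of_smul_eq_smul (α := Ω) (fun a => by rw [hcon, one_smul])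
    rw [this, orderOf_one] at hzG
    exact hp.one_lt.ne hzG
  set A := orbit (P : Subgroup G) α with hA
  set B := orbit (P : Subgroup G) β with hB
  have hzB : ∀ y ∈ B, z • y = y := by
    rintro _ ⟨q, rfl⟩
    change z • q • β = q • β
    rw [← mul_smul, ← Subgroup.mem_center_iff.mp hz q, mul_smul]
    exact congrArg _ hβ
  have hzA : ∀ y ∈ A, z • y ≠ y := by
    rintro _ ⟨q, rfl⟩ h
    change z • q • α = q • α at h
    rw [← mul_smul, ← Subgroup.mem_center_iff.mp hz q, mul_smul, smul_left_cancel_iff] at h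
    exact hα h
  have hdisj : Disjoint A B := Set.disjoint_left.mpr (fun y h1 h2 => hzA y h1 (hzB y h2))
  have h1 := hidx α
  have h2 := hidx β
  rw [index_stabilizer, ← hA] at h1
  rw [index_stabilizer, ← hB] at h2
  have h4 := Set.ncard_union_eq hdisj
  have h5 : (A ∪ B).ncard ≤ 2 * p ^ 2 := by rw [← hcard]; exact Set.ncard_le_card _
  have h6 : p ^ 2 ≤ A.ncard := Nat.le_of_dvd ((Set.ncard_pos (Set.toFinite _)).mpr ⟨α, mem_orbit_self α⟩) h1
  have h7 : p ^ 2 ≤ B.ncard := Nat.le_of_dvd ((Set.ncard_pos (Set.toFinite _)).mpr ⟨β, mem_orbit_self β⟩) h2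
  have hAB : A ∪ B = Set.univ := by
    apply Set.eq_of_subset_of_ncard_le (Set.subset_univ _) _ (Set.toFinite _)
    rw [Set.ncard_univ]; omega
  have hnB : ∀ y, y ∉ B → y ∈ A := by
    intro y hy
    have : y ∈ A ∪ B := by rw [hAB]; trivial
    exact this.resolve_right hy
  obtain ⟨w, hw1, hw2⟩ := core P.isPGroup' z hz α β hα (by rw [index_stabilizer, ← hA]; omega)
    (by rw [index_stabilizer, ← hB]; omega)
  have hBinv : ∀ (q : (P : Subgroup G)) (y : Ω), q • y ∈ B ↔ y ∈ B := fun q y => by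
    constructor
    · rintro ⟨r, hr⟩
      refine ⟨q⁻¹ * r, ?_⟩
      have hr' : r • β = q • y := hr
      change (q⁻¹ * r) • β = y
      rw [mul_smul, hr', inv_smul_smul]
    · rintro ⟨r, rfl⟩
      exact ⟨q * r, mul_smul q r β⟩
  let σ : Equiv.Perm Ω := MulAction.toPerm z * Equiv.Perm.ofSubtype (MulAction.toPerm w : Equiv.Perm B)
  have hσB : ∀ y ∈ B, σ y = w • y := by
    intro y hy
    change z • (Equiv.Perm.ofSubtype (MulAction.toPerm w : Equiv.Perm B) y) = _
    rw [Equiv.Perm.ofSubtype_apply_of_mem _ hy]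
    exact hzB _ ((hBinv w y).mpr hy)
  have hσA : ∀ y, y ∉ B → σ y = z • y := by
    intro y hy
    change z • (Equiv.Perm.ofSubtype (MulAction.toPerm w : Equiv.Perm B) y) = _
    rw [Equiv.Perm.ofSubtype_apply_of_not_mem _ hy]
  have hmix : ∀ a b, a ∉ B → b ∈ B → ∃ g : G, σ a = g • a ∧ σ b = g • b := by
    intro a b ha hb
    obtain ⟨u, j, hu, hwu⟩ := hw2 a (hnB a ha)
    refine ⟨(z * u : (P : Subgroup G)), ?_, ?_⟩
    · rw [hσA a ha]
      change _ = (z * u) • a
      rw [mul_smul, hu]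
    · rw [hσB b hb]
      change _ = (z * u) • b
      rw [mul_smul, hzB _ ((hBinv u b).mpr hb), hwu, mul_smul]
      congr 1
      exact (stabilizer (P : Subgroup G) b).zpow_mem (hzB b hb) j
  obtain ⟨g, hg⟩ := hcl σ (by
    intro a b
    by_cases ha : a ∈ B <;> by_cases hb : b ∈ B
    · exact ⟨w, hσB a ha, hσB b hb⟩
    · obtain ⟨g, h1, h2⟩ := hmix b a hb ha
      exact ⟨g, h2, h1⟩
    · exact hmix a b ha hb
    · exact ⟨z, hσA a ha, hσA b hb⟩)
  have hgfix : ∀ ω : Ω, g • ω ≠ ω := by
    intro ω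
    rw [← hg]
    by_cases hω : ω ∈ B
    · rw [hσB ω hω]; exact (hw1 ω hω).1
    · rw [hσA ω hω]; exact hzA ω (hnB ω hω)
  refine ⟨g, ?_, hgfix⟩
  have : orderOf g = p := by
    apply orderOf_eq_prime
    · apply FaithfulSMul.eq_of_smul_eq_smul (α := Ω)
      intro ω
      rw [one_smul]
      by_cases hω : ω ∈ B
      · have : ∀ n : ℕ, g ^ n • ω = w ^ n • ω := by
          intro n
          induction n with
          | zero => simp
          | succ n ih => rw [pow_succ', pow_succ', mul_smul, mul_smul, ih, ← hg, hσB _ ((hBinv _ _).mpr hω)]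
        rw [this, (hw1 ω hω).2]
      · have : ∀ n : ℕ, g ^ n • ω = z ^ n • ω := by
          intro n
          induction n with
          | zero => simp
          | succ n ih =>
            rw [pow_succ', pow_succ', mul_smul, mul_smul, ih, ← hg, hσA _ (fun h => hω ((hBinv _ _).mp h))]
        have hzp : z ^ p = 1 := by
          have := pow_orderOf_eq_one z
          rwa [hzo] at this
        rw [this, hzp, one_smul]
    · rintro rfl
      exact hgfix ω0 (one_smul _ _)
  rw [this]; exact hp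

end Cfsg.Agent.S3557
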