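import Cfsg.Statements.S3643
import Cfsg.Agent.M12R.D12
import Cfsg.Agent.M12R.Loc12
import Cfsg.Agent.M12R.Loc12a
import Cfsg.Agent.M12R.Red
import Cfsg.Agent.M12R.Split
import Cfsg.Agent.Small.Uniq

set_option autoImplicit false
open Cfsg

namespace Cfsg.Agent.S3643

/-- Let G be a finite group of the same order as the Mathieu group M₁₂ whose character degree graph equals that of M₁₂ (same primes dividing some irreducible complex character degree, same pairs of distinct primes whose product divides some degree). Then G is isomorphic to M₁₂ or to the direct product of the alternating group of degree 4 with M₁₁. -/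
theorem result {G : Type*} [Group G] [Finite G] (hcard : Nat.card G = Nat.card ↥Cfsg.Spor.M12) (hΔ : Cfsg.degreePrimes G = Cfsg.degreePrimes ↥Cfsg.Spor.M12 ∧ Cfsg.degreeGraph G = Cfsg.degreeGraph ↥Cfsg.Spor.M12) :
    Nonempty (G ≃* ↥Cfsg.Spor.M12) ∨ Nonempty (G ≃* alternatingGroup (Fin 4) × ↥Cfsg.Spor.M11) := by
  obtain ⟨hs, hc⟩ := M12R.simple12
  obtain ⟨-, h33, h55⟩ := M12R.exists_H12 hc
  have h1 : ∀ p q, p ≠ q → p.Prime → q.Prime → Small.Rho Spor.M12 (p * q) → Small.Rho G (p * q) :=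
    fun p q h hp hq => by
      have : Small.Rho G (p * q) ↔ Small.Rho Spor.M12 (p * q) := by
        simpa [degreeGraph, h, hp, hq, Small.rho_iff] using congrArg (fun Γ => Γ.Adj p q) hΔ.2
      exact this.2
  have hG := hcard.trans hc
  have g33 := h1 3 11 (by norm_num) Nat.prime_three Nat.prime_eleven h33
  obtain ⟨M, m1, m2, m3, m4, m5⟩ := M12R.red hG (h1 5 11 (by norm_num) Nat.prime_five Nat.prime_eleven h55)
  have h2 := Subgroup.card_subgroup_dvd_card M
  have h3 := Subgroup.card_quotient_dvd_card (pPrimeCore 11 G)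
  rcases M12R.simple_card m3 (hG ▸ h2.trans h3) m4 m5 with h4 | h4
  · obtain ⟨e⟩ := M12R.m11 h4
    obtain ⟨e'⟩ := M11.nonempty_M11_equiv
    obtain ⟨h5, ⟨f⟩⟩ := M12R.split hG e
    obtain ⟨g⟩ := M12R.a4 h5 (fun h => (M12R.data11 h4).2.2.1 (h.of_surj e.toMonoidHom e.surjective))
      (g33.of_surj f.symm.toMonoidHom f.symm.surjective)
    exact Or.inr ⟨f.trans (g.prodCongr e'.symm)⟩
  obtain ⟨⟨z, t, h5⟩, -⟩ := M12R.exists_H12 h4
  obtain ⟨e⟩ := h5.m12_of_loc fun _ => h5.loc
  have h6 : Function.Bijective (QuotientGroup.mk' (pPrimeCore 11 G)) :=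
    (QuotientGroup.mk'_surjective _).bijective_of_nat_card_le
      (hG.trans_le (h4.ge.trans (Nat.le_of_dvd Nat.card_pos h2)))
  have h7 : M = ⊤ := Subgroup.eq_top_of_card_eq _
    (Nat.dvd_antisymm h2 (h3.trans (hG.trans h4.symm).dvd))
  subst h7
  exact Or.inl ⟨((MulEquiv.ofBijective _ h6).trans Subgroup.topEquiv.symm).trans e⟩

end Cfsg.Agent.S3643
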