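import Cfsg.Statements.S3645
import Cfsg.Agent.U45.Asm
import Cfsg.Agent.U45.Np
import Cfsg.Agent.U45.Id8

set_option autoImplicit false
open Cfsg

namespace Cfsg.Agent.S3645

open U45

theorem idn8 {F : Type*} [Field F] [Fintype F] (hF : Fintype.card F = 8 ^ 2) :
    Idn 5515776 19 (PSU 3 F 8) := fun _ _ _ _ hna hd hr => by
  obtain ⟨h1, h2⟩ := np8 hna hd hr
  obtain ⟨χ, St, h3⟩ := exists_UC hna (Or.inr (Or.inl ⟨rfl, rfl, h1⟩)) h2
  exact ⟨h1, (h3.xd (Or.inr (Or.inl ⟨rfl, rfl, rfl, h1⟩))).psu8 h1 hF, h3.rho⟩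

/-- Let S be one of the simple groups PSL(2, q) for q ∈ {23, 25, 47, 81}, PSU(3, q) for q ∈ {7, 8, 9}, or the Suzuki group Sz(q) for q ∈ {8, 32}, and let G be a finite group with the same order as S whose character degree graph equals that of S (same primes dividing some irreducible complex character degree, same pairs of distinct primes whose product divides some degree). Then G is isomorphic to S. -/
theorem result {S : Type*} [Group S] [Finite S]
    (hS : (∃ (F : Type) (_ : Field F) (_ : Fintype F), Fintype.card F ∈ ({23, 25, 47, 81} : Finset ℕ) ∧ Nonempty (S ≃* Matrix.ProjectiveSpecialLinearGroup (Fin 2) F)) ∨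
      (∃ (F : Type) (_ : Field F) (_ : Fintype F) (q : ℕ), q ∈ ({7, 8, 9} : Finset ℕ) ∧ Fintype.card F = q ^ 2 ∧ Nonempty (S ≃* Cfsg.PSU 3 F q)) ∨
      (∃ (F : Type) (_ : Field F) (_ : Fintype F) (m : ℕ), m ∈ ({1, 2} : Finset ℕ) ∧ Fintype.card F = 2 ^ (2 * m + 1) ∧ Nonempty (S ≃* ↥(Cfsg.Lie.Sz F (2 ^ (m + 1))))))
    {G : Type*} [Group G] [Finite G] (hcard : Nat.card G = Nat.card S) (hΔ : Cfsg.degreePrimes G = Cfsg.degreePrimes S ∧ Cfsg.degreeGraph G = Cfsg.degreeGraph S) :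
    Nonempty (G ≃* S) := by
  rcases hS with ⟨F, _, _, hF, ⟨e⟩⟩ | ⟨F, _, _, q, hq, hF, ⟨e⟩⟩ | ⟨F, _, _, m, hm, hF, ⟨e⟩⟩
  · have hc := PSL2Rec.card_psl2 (F := F)
    simp only [Finset.mem_insert, Finset.mem_singleton] at hF
    rcases hF with hF | hF | hF | hF <;> rw [hF] at hc <;> norm_num at hc
    · exact asm (N := 6072) (r := 23) (by decide) e (by omega) (nn_psl2 (by omega) (by norm_num))
        (idn23 hF) (idn23 hF) hcard hΔ.1
    · exact asm (N := 7800) (r := 13) (by decide) e (by omega) (nn_psl2 (by omega) (by norm_num))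
        (idn25 hF) (idn25 hF) hcard hΔ.1
    · exact asm (N := 51888) (r := 47) (by decide) e (by omega) (nn_psl2 (by omega) (by norm_num))
        (idn47 hF) (idn47 hF) hcard hΔ.1
    · exact asm (N := 265680) (r := 41) (by decide) e (by omega) (nn_psl2 (by omega) (by norm_num))
        (idn81 hF) (idn81 hF) hcard hΔ.1
  · have hc := card_psu3 hF
    simp only [Finset.mem_insert, Finset.mem_singleton] at hq
    rcases hq with rfl | rfl | rfl <;> norm_num at hc
    · exact asm (N := 5663616) (r := 43) (by decide) e (by omega) (nn_psu hF (by norm_num))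
        (idn7 hF) (idn7 hF) hcard hΔ.1
    · exact asm (N := 5515776) (r := 19) (by decide) e (by omega) (nn_psu hF (by norm_num))
        (idn8 hF) (idn8 hF) hcard hΔ.1
    · exact asm (N := 42573600) (r := 73) (by decide) e (by omega) (nn_psu hF (by norm_num))
        (idn9 hF) (idn9 hF) hcard hΔ.1
  · simp only [Finset.mem_insert, Finset.mem_singleton] at hm
    obtain ⟨N, r, h1, h2⟩ : ∃ N r, (N, r) ∈ pairs ∧
        ((m = 1 ∧ N = 29120 ∧ r = 13) ∨ (m = 2 ∧ N = 32537600 ∧ r = 41)) := by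
      rcases hm with rfl | rfl
      exacts [⟨_, _, by decide, Or.inl ⟨rfl, rfl, rfl⟩⟩, ⟨_, _, by decide, Or.inr ⟨rfl, rfl, rfl⟩⟩]
    obtain ⟨h3, h4⟩ := sz_data h2 hF
    have : Finite ↥(Cfsg.Lie.Sz F (2 ^ (m + 1))) := Finite.of_equiv _ e.toEquiv
    exact asm h1 e h3 (nn_of_rho h1 h3 h4) (idnSz h2 hF) (idnSz h2 hF) hcard hΔ.1

end Cfsg.Agent.S3645
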