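import Cfsg.Statements.S3668
import Cfsg.Agent.Small.Uniq

set_option autoImplicit false
open Cfsg

namespace Cfsg.Agent.S3668

/-- The character degree graph of a finite group has as vertices the primes dividing some irreducible complex character degree, two distinct primes being joined when their product divides some irreducible character degree; two groups have the same character degree graph when they have the same vertices and the same joined pairs. Let S be a finite non-abelian simple group of order less than 6000. If a finite group G has the same order as S and the same character degree graph as S, then G is isomorphic to S. -/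
theorem result {S : Type*} [Group S] [Finite S] [IsSimpleGroup S] (hS : ¬ IsMulCommutative S)
    (hlt : Nat.card S < 6000) {G : Type*} [Group G] [Finite G] (hcard : Nat.card G = Nat.card S) (hΓ : Cfsg.degreePrimes G = Cfsg.degreePrimes S ∧ Cfsg.degreeGraph G = Cfsg.degreeGraph S) :
    Nonempty (G ≃* S) := by
  have h1 : ∀ p q, p ≠ q → p.Prime → q.Prime → (Small.Rho G (p * q) ↔ Small.Rho S (p * q)) :=
    fun p q h hp hq => by
      simpa [degreeGraph, h, hp, hq, Small.rho_iff] using congrArg (fun Γ => Γ.Adj p q) hΓ.2
  obtain ⟨h2, h3⟩ := Small.simple_of_rho hS hlt hcard
    (fun p hp h => Small.rho_iff.2 (hΓ.1.ge ⟨hp, Small.rho_iff.1 h⟩).2)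
    (h1 2 3 (by norm_num) Nat.prime_two Nat.prime_three).1
    (h1 2 5 (by norm_num) Nat.prime_two Nat.prime_five).2
  exact Small.equiv_of_card h3 hS hlt hcard

end Cfsg.Agent.S3668
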