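import Cfsg.Statements.S3686
import Cfsg.Agent.Wong.S42

set_option autoImplicit false
open Cfsg

namespace Cfsg.Agent.S3686

/-- Let G be a finite insoluble group acting faithfully and primitively on a set Ω so that the stabilizer of a point a has an orbit of length 3. Then G is isomorphic to one of: the alternating or the symmetric group of degree 5, PGL(2, 7), PSL(2, 11), PSL(2, 13), PSL(2, p) for a prime p ≡ ±1 (mod 16), PSL(3, 3), or a group containing a normal subgroup of index 2 isomorphic to PSL(3, 3) with trivial centralizer. -/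
theorem result {G Ω : Type*} [Group G] [Finite G] [MulAction G Ω] [FaithfulSMul G Ω] [Finite Ω]
    (hsol : ¬ Group.IsSolvable G) (hprim : MulAction.IsPreprimitive G Ω) (a b : Ω) (h3 : Nat.card (MulAction.orbit (MulAction.stabilizer G a) b) = 3) :
    Nonempty (G ≃* alternatingGroup (Fin 5)) ∨ Nonempty (G ≃* Equiv.Perm (Fin 5)) ∨
      Nonempty (G ≃* GL (Fin 2) (ZMod 7) ⧸ Subgroup.center (GL (Fin 2) (ZMod 7))) ∨
      Nonempty (G ≃* Matrix.ProjectiveSpecialLinearGroup (Fin 2) (ZMod 11)) ∨
      Nonempty (G ≃* Matrix.ProjectiveSpecialLinearGroup (Fin 2) (ZMod 13)) ∨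
      (∃ p : ℕ, p.Prime ∧ (p % 16 = 1 ∨ p % 16 = 15) ∧ Nonempty (G ≃* Matrix.ProjectiveSpecialLinearGroup (Fin 2) (ZMod p))) ∨
      Nonempty (G ≃* Matrix.ProjectiveSpecialLinearGroup (Fin 3) (ZMod 3)) ∨
      (∃ N : Subgroup G, N.Normal ∧ N.index = 2 ∧ Subgroup.centralizer (N : Set G) = ⊥ ∧
        Nonempty (N ≃* Matrix.ProjectiveSpecialLinearGroup (Fin 3) (ZMod 3))) := by
  have key := fun h => Wong.prim_of hsol hprim h3 h
  have sol : ∀ {A : Type} [Group A] [Finite A], (MulAction.stabilizer G a ≃* A) → Group.IsSolvable A →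
      Wong.Prim (MulAction.stabilizer G a) := fun e h =>
    key (Group.isSolvable_of_surjective (f := e.symm.toMonoidHom) e.symm.surjective)
  have small : ∀ {A : Type} [Group A] [Fintype A], (MulAction.stabilizer G a ≃* A) →
      Fintype.card A ∣ 120 → Fintype.card A < 60 → Wong.Prim (MulAction.stabilizer G a) := fun e h1 h2 =>
    sol e (Pres.solvable_of_card_dvd_120 (by simpa using h1) (by simp; omega) (by simp; omega))
  have c3 : ∀ {A : Type} [Group A] [Fintype A] [DecidableEq A], (MulAction.stabilizer G a ≃* A) →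
      Fintype.card A ∣ 6 → ∀ x : A, x ≠ 1 → x ^ 3 = 1 →
      (∀ g, g = 1 ∨ g = x ∨ g = x⁻¹ ∨ g * x * g⁻¹ = x⁻¹) → Nonempty (G ≃* alternatingGroup (Fin 5)) := by
    intro A _ _ _ e h1 x h2 h3 h4
    obtain ⟨φ, inj, mH⟩ := Wong.exists_hom e
    refine (small e (h1.trans (by decide)) (Nat.le_of_dvd (by decide) h1 |>.trans_lt (by decide))).case3
      (x := φ x) ((orderOf_injective φ inj x).trans (orderOf_eq_prime h3 h2)) (fun g hg => ?_)
      (by rwa [Nat.card_congr e.toEquiv, Nat.card_eq_fintype_card])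
    obtain ⟨g, rfl⟩ := (mH g).mp hg
    rcases h4 g with rfl | rfl | rfl | h
    · simp
    · simp
    · simp
    · exact Or.inr (by simpa using congrArg φ h)
  rcases Perm2.Sims.sims hprim h3 with ⟨⟨e⟩⟩ | ⟨⟨e⟩⟩ | ⟨⟨e⟩⟩ | ⟨⟨e⟩⟩ | ⟨⟨e⟩⟩
  · exact Or.inl (c3 e (by decide) (Multiplicative.ofAdd 1) (by decide) (by decide) (by decide))
  · exact Or.inl (c3 e (by decide) (finRotate 3) (by decide) (by decide) (by decide))
  · exact Or.inr (((small e (by rw [DihedralGroup.card]; decide) (by rw [DihedralGroup.card]; decide)).d12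
      e).imp_right (Or.imp_right (Or.imp_right Or.inl)))
  · exact Or.inr (Or.inr (Or.inr (Or.inr (Or.inr (((small e (by simp [Fintype.card_perm]; decide)
      (by simp [Fintype.card_perm]; decide)).s4 e).imp_right Or.inl)))))
  · have : Group.IsSolvable (Equiv.Perm (Fin 4)) :=
      Pres.solvable_of_card_dvd_120 (by simp [Fintype.card_perm]; decide)
        (by simp [Fintype.card_perm]; decide) (by simp [Fintype.card_perm]; decide)
    exact Or.inr (Or.inr (Or.inr (Or.inr (Or.inr (Or.inr (Or.inr ((sol e inferInstance).s42 e)))))))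

end Cfsg.Agent.S3686
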