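import Cfsg.Statements.S3714
import Cfsg.Agent.Z6.Main

set_option autoImplicit false
open Cfsg

namespace Cfsg.Agent.S3714

/-- Let G be a finite group of order not divisible by 5 whose Sylow 3-subgroups have order 3, and let x be an element of order 3 whose centralizer is abelian of order 12 and exponent dividing 6 (so C_G(x) is the direct product of ⟨x⟩ and a Klein four-group). Write O for the largest normal 3'-subgroup of G. Then G/O is cyclic of order 3 or isomorphic to the symmetric group of degree 3, and G is solvable; or G/O is isomorphic to PSL(2,7) or PSL(2,13); or G/O is isomorphic to PGL(2,7) or PGL(2,13), and G has a normal subgroup K of index 2 with G = K·C_G(x). -/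
theorem result {G : Type*} [Group G] [Finite G] (h5 : ¬ 5 ∣ Nat.card G) (h9 : ¬ 9 ∣ Nat.card G) (x : G) (hx : orderOf x = 3)
    (hC : Nat.card ↥(Subgroup.centralizer ({x} : Set G)) = 12)
    (hCab : ∀ a ∈ Subgroup.centralizer ({x} : Set G), ∀ b ∈ Subgroup.centralizer ({x} : Set G), a * b = b * a)
    (hCexp : ∀ a ∈ Subgroup.centralizer ({x} : Set G), a ^ 6 = 1) :
    ((Nat.card (G ⧸ Cfsg.pPrimeCore 3 G) = 3 ∨ Nonempty (G ⧸ Cfsg.pPrimeCore 3 G ≃* DihedralGroup 3)) ∧ Group.IsSolvable G) ∨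
    (Nonempty (G ⧸ Cfsg.pPrimeCore 3 G ≃* Matrix.ProjectiveSpecialLinearGroup (Fin 2) (ZMod 7)) ∨
      Nonempty (G ⧸ Cfsg.pPrimeCore 3 G ≃* Matrix.ProjectiveSpecialLinearGroup (Fin 2) (ZMod 13))) ∨
    ((Nonempty (G ⧸ Cfsg.pPrimeCore 3 G ≃* (GL (Fin 2) (ZMod 7) ⧸ Subgroup.center (GL (Fin 2) (ZMod 7)))) ∨
      Nonempty (G ⧸ Cfsg.pPrimeCore 3 G ≃* (GL (Fin 2) (ZMod 13) ⧸ Subgroup.center (GL (Fin 2) (ZMod 13))))) ∧
      ∃ K : Subgroup G, K.Normal ∧ K.index = 2 ∧ K ⊔ Subgroup.centralizer ({x} : Set G) = ⊤) :=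
  Z6.s3714_of Z6.charHyp Z6.sixHyp Z6.fourHyp h5 x hx hC hCab hCexp

end Cfsg.Agent.S3714
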