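import Cfsg.Statements.S3717
import Cfsg.Agent.M9.End
import Cfsg.Agent.M9.Alpha
import Cfsg.Agent.M9.Beta
import Cfsg.Agent.M9.CaseB
import Cfsg.Agent.M9.CaseC
import Cfsg.Agent.M9.PG

set_option autoImplicit false
open Cfsg

namespace Cfsg.Agent.S3717

/-- Let G be a finite non-abelian simple group with an elementary abelian Sylow 3-subgroup M of order 9 which is self-centralizing (C_G(M) = M), let N = N_G(M), and suppose C_G(g) ≤ N for every nonidentity g ∈ M. If the Sylow 2-subgroups of N are semidihedral of order 16 (order 16, generated by a of order 8 and an involution b with b a b⁻¹ = a³), then G is isomorphic to the Mathieu group of degree 11. -/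
theorem result {G : Type*} [Group G] [Finite G] [IsSimpleGroup G] (hG : ¬ IsMulCommutative G) (M : Sylow 3 G) (hM9 : Nat.card ↥(M : Subgroup G) = 9)
    (hMel : ∀ m ∈ (M : Subgroup G), m ^ 3 = 1)
    (hCM : Subgroup.centralizer ((M : Subgroup G) : Set G) = (M : Subgroup G))
    (N : Subgroup G) (hN : N = Subgroup.normalizer ((M : Subgroup G) : Set G))
    (hCg : ∀ g ∈ (M : Subgroup G), g ≠ 1 → Subgroup.centralizer ({g} : Set G) ≤ N)
    (hS : ∀ S : Sylow 2 ↥N, Nat.card ↥(S : Subgroup ↥N) = 16 ∧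
      ∃ a ∈ (S : Subgroup ↥N), ∃ b ∈ (S : Subgroup ↥N), orderOf a = 8 ∧ orderOf b = 2 ∧ b * a * b⁻¹ = a ^ 3) :
    Cfsg.Spor.IsoM11 G := by
  obtain ⟨g, h, s, t, z, ρ, H⟩ := M9.setup hG M hM9 hMel hCM N hN hCg hS
  rcases H.tri with ⟨K, A⟩ | ⟨Q, π, B⟩ | ⟨π, C⟩
  · by_cases hx : ∃ x ∈ M9.QQ K, x * z * x⁻¹ = s * z
    · obtain ⟨x, hx, e⟩ := hx
      exact H.fin (A.beta hx e)
    · exact (M9.CA.alpha_of (fun h2 => M9.pg h2) (fun H => H.one) A
        fun x a b => hx ⟨x, a, b⟩).elim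
  · exact B.false.elim
  · exact C.false.elim

end Cfsg.Agent.S3717
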